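import Groth.Agent.PerfModLib.Stalk
import Mathlib

/-!
# Perfect morphisms and the tor dimension of stalks
-/

set_option autoImplicit false
set_option linter.style.haveILetI false
set_option backward.isDefEq.respectTransparency.types false

noncomputable section

universe u

open CategoryTheory AlgebraicGeometry
attribute [local instance] HasDerivedCategory.standard

namespace PerfModLib

theorem perfectMor_iff_stalks {X S : Scheme.{u}} (f : X ⟶ S) (hf : MoreMor.IsPseudoCoherentMor f) :
    MoreMor.IsPerfectMor f ↔ ∀ x : X,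
      letI := (f.stalkMap x).hom.toAlgebra
      DRing.HasFiniteTorDim (S.presheaf.stalk (f x)) (X.presheaf.stalk x) := by
  constructor
  · intro h x
    obtain ⟨V, hV, hxV, -⟩ := exists_isAffineOpen_mem_and_subset (x := f x) (U := ⊤) trivial
    obtain ⟨U, hU, hxU, hUV⟩ := exists_isAffineOpen_mem_and_subset (x := x) (U := f ⁻¹ᵁ V) hxV
    have e : U ≤ f ⁻¹ᵁ V := hUV
    letI := (f.stalkMap x).hom.toAlgebra
    letI := (f.appLE V U e).hom.toAlgebra
    letI : Algebra Γ(X, U) (X.presheaf.stalk x) := TopCat.Presheaf.algebra_section_stalk X.presheaf ⟨x, hxU⟩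
    haveI := hU.isLocalization_stalk ⟨x, hxU⟩
    letI : Algebra Γ(S, V) (S.presheaf.stalk (f x)) := TopCat.Presheaf.algebra_section_stalk S.presheaf ⟨f x, hxV⟩
    let q := (hU.primeIdealOf ⟨x, hxU⟩).asIdeal
    have hp : q.comap (algebraMap Γ(S, V) Γ(X, U)) = (hV.primeIdealOf ⟨f x, hxV⟩).asIdeal :=
      congrArg PrimeSpectrum.asIdeal (IsAffineOpen.comap_primeIdealOf_appLE (f := f) V hV U hU e hxU)
    haveI : IsLocalization.AtPrime (S.presheaf.stalk (f x)) (q.comap (algebraMap Γ(S, V) Γ(X, U))) := by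
      have key : ∀ (r : Ideal Γ(S, V)) [r.IsPrime], r = (hV.primeIdealOf ⟨f x, hxV⟩).asIdeal →
          IsLocalization.AtPrime (S.presheaf.stalk (f x)) r := by
        intro r _ hr
        subst hr
        exact hV.isLocalization_stalk ⟨f x, hxV⟩
      exact key _ hp
    letI : Algebra Γ(S, V) (X.presheaf.stalk x) :=
      ((algebraMap Γ(X, U) (X.presheaf.stalk x)).comp (algebraMap Γ(S, V) Γ(X, U))).toAlgebra
    haveI : IsScalarTower Γ(S, V) Γ(X, U) (X.presheaf.stalk x) := IsScalarTower.of_algebraMap_eq fun _ => rfl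
    haveI : IsScalarTower Γ(S, V) (S.presheaf.stalk (f x)) (X.presheaf.stalk x) := IsScalarTower.of_algebraMap_eq fun a =>
      ((Scheme.Hom.germ_stalkMap_apply f V x hxV a).trans
        (TopCat.Presheaf.germ_res_apply X.presheaf (homOfLE e) x hxU _).symm).symm
    exact hasFiniteTorDim_stalk (h U V hU hV e).2 q (S.presheaf.stalk (f x)) (X.presheaf.stalk x)
  · intro h U V hU hV e
    letI := (f.appLE V U e).hom.toAlgebra
    refine isPerfectHom_of_stalks (hf U V hU hV e) fun q _ => ?_
    let x : X := hU.fromSpec ⟨q, inferInstance⟩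
    have hxU : x ∈ U := hU.opensRange_fromSpec ▸ Set.mem_range_self _
    have hxV : f x ∈ V := e hxU
    have hq : hU.primeIdealOf ⟨x, hxU⟩ = ⟨q, inferInstance⟩ :=
      hU.fromSpec.isOpenEmbedding.injective (hU.fromSpec_primeIdealOf ⟨x, hxU⟩)
    letI iX : Algebra Γ(X, U) (X.presheaf.stalk x) := TopCat.Presheaf.algebra_section_stalk X.presheaf ⟨x, hxU⟩
    letI iS : Algebra Γ(S, V) (S.presheaf.stalk (f x)) := TopCat.Presheaf.algebra_section_stalk S.presheaf ⟨f x, hxV⟩
    letI iSX : Algebra Γ(S, V) (X.presheaf.stalk x) :=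
      ((algebraMap Γ(X, U) (X.presheaf.stalk x)).comp (algebraMap Γ(S, V) Γ(X, U))).toAlgebra
    letI iK : Algebra (S.presheaf.stalk (f x)) (X.presheaf.stalk x) := (f.stalkMap x).hom.toAlgebra
    refine ⟨S.presheaf.stalk (f x), X.presheaf.stalk x, inferInstance, inferInstance, iS, ?_, iX, ?_, iSX,
      IsScalarTower.of_algebraMap_eq fun _ => rfl, iK, IsScalarTower.of_algebraMap_eq fun a =>
        ((Scheme.Hom.germ_stalkMap_apply f V x hxV a).trans
          (TopCat.Presheaf.germ_res_apply X.presheaf (homOfLE e) x hxU _).symm).symm, h x⟩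
    · have key : ∀ (r : Ideal Γ(S, V)) [r.IsPrime], r = (hV.primeIdealOf ⟨f x, hxV⟩).asIdeal →
          IsLocalization.AtPrime (S.presheaf.stalk (f x)) r := by
        intro r _ hr
        subst hr
        exact hV.isLocalization_stalk ⟨f x, hxV⟩
      refine key _ ?_
      have h2 := congrArg PrimeSpectrum.asIdeal (IsAffineOpen.comap_primeIdealOf_appLE (f := f) V hV U hU e hxU)
      rw [← h2]
      exact congrArg (fun z => Ideal.comap (algebraMap Γ(S, V) Γ(X, U)) (PrimeSpectrum.asIdeal z)) hq.symm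
    · have key : ∀ (r : Ideal Γ(X, U)) [r.IsPrime], r = (hU.primeIdealOf ⟨x, hxU⟩).asIdeal →
          IsLocalization.AtPrime (X.presheaf.stalk x) r := by
        intro r _ hr
        subst hr
        exact hU.isLocalization_stalk ⟨x, hxU⟩
      exact key _ (congrArg PrimeSpectrum.asIdeal hq.symm)

end PerfModLib
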