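import Groth.Agent.DRingLib.Devissage
import Groth.Agent.DRingLib.PCohMore
import Groth.Agent.DRingLib.AmplitudeTri
import Groth.Agent.S6935
import Groth.Agent.DRingLib.ProjAmplitude
import Groth.Agent.S6946
import Groth.Agent.DiagLib.FD
import Groth.Agent.CILib.TorDim
import Groth.Agent.PDLib.PD
import Mathlib

/-!
# Pseudo-coherent and perfect modules along short exact sequences
-/

set_option autoImplicit false
set_option linter.style.haveILetI false

noncomputable section

universe u

open CategoryTheory CategoryTheory.Limits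
attribute [local instance] HasDerivedCategory.standard


namespace PerfModLib

open Groth.Agent.DRingLib

variable {R : Type u} [CommRing R] {M N F : Type u} [AddCommGroup M] [Module R M] [AddCommGroup N] [Module R N]
  [AddCommGroup F] [Module R F]

theorem exists_triangle (g : F →ₗ[R] M) (hg : Function.Surjective g) :
    ∃ T ∈ Pretriangulated.distinguishedTriangles (C := DerivedCategory (ModuleCat.{u} R)),
      T.obj₁ = Dual.inD R (LinearMap.ker g) ∧ T.obj₂ = Dual.inD R F ∧ T.obj₃ = Dual.inD R M := by
  let S : ShortComplex (ModuleCat.{u} R) :=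
    ShortComplex.mk (ModuleCat.ofHom (LinearMap.ker g).subtype) (ModuleCat.ofHom g)
      (ModuleCat.hom_ext (LinearMap.exact_subtype_ker_map g).linearMap_comp_eq_zero)
  haveI : Mono S.f := (ModuleCat.mono_iff_injective _).2 Subtype.val_injective
  haveI : Epi S.g := (ModuleCat.epi_iff_surjective _).2 hg
  have hS : S.ShortExact :=
    { exact := (ShortComplex.ShortExact.moduleCat_exact_iff_function_exact S).2 (LinearMap.exact_subtype_ker_map g) }
  exact ⟨hS.singleTriangle, hS.singleTriangle_distinguished, rfl, rfl, rfl⟩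

theorem pcoh_of_equiv {m : ℤ} (e : M ≃ₗ[R] N) (h : DRing.IsPseudoCoherentModule R m M) :
    DRing.IsPseudoCoherentModule R m N :=
  isPseudoCoherent_of_iso ((DerivedCategory.singleFunctor (ModuleCat.{u} R) 0).mapIso e.toModuleIso) h

theorem perfect_of_equiv (e : M ≃ₗ[R] N) (h : DRing.IsPerfectModule R M) : DRing.IsPerfectModule R N :=
  isPerfect_of_iso ((DerivedCategory.singleFunctor (ModuleCat.{u} R) 0).mapIso e.toModuleIso) h

theorem pcoh_nonneg [Module.Finite R M] {m : ℤ} (hm : 0 ≤ m) : DRing.IsPseudoCoherentModule R m M :=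
  isPseudoCoherent_mono hm ((Groth.Agent.S6935.result R M).1.2 inferInstance)

/-- The syzygy raises pseudo-coherence by one. -/
theorem pcoh_of_ker {m : ℤ} (g : F →ₗ[R] M) (hg : Function.Surjective g)
    (hF : DRing.IsPseudoCoherentModule R m F) (hK : DRing.IsPseudoCoherentModule R (m + 1) (LinearMap.ker g)) :
    DRing.IsPseudoCoherentModule R m M := by
  obtain ⟨T, hT, h1, h2, h3⟩ := exists_triangle g hg
  exact (h3 ▸ isPseudoCoherent_obj₃ T hT m (h1.symm ▸ hK) (h2.symm ▸ hF) : _)

theorem perfect_of_ker (g : F →ₗ[R] M) (hg : Function.Surjective g) (hF : DRing.IsPerfectModule R F)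
    (hK : DRing.IsPerfectModule R (LinearMap.ker g)) : DRing.IsPerfectModule R M := by
  obtain ⟨T, hT, h1, h2, h3⟩ := exists_triangle g hg
  exact (h3 ▸ isPerfect_obj₃ T hT (h1.symm ▸ hK) (h2.symm ▸ hF) : _)

theorem perfect_of_finite_free [Module.Finite R F] [Module.Projective R F] : DRing.IsPerfectModule R F := by
  refine ⟨(CochainComplex.singleFunctor (ModuleCat.{u} R) 0).obj (ModuleCat.of R F), 0, 0, fun i hi => ?_, fun i => ?_,
    ⟨((DerivedCategory.singleFunctorIsoCompQ (ModuleCat.{u} R) 0).app (ModuleCat.of R F)).symm⟩⟩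
  · exact HomologicalComplex.isZero_single_obj_X _ _ _ _ (by omega)
  · by_cases h : i = 0
    · subst h
      have e := (HomologicalComplex.singleObjXSelf (ComplexShape.up ℤ) 0 (ModuleCat.of R F)).toLinearEquiv
      exact ⟨Module.Finite.equiv e.symm, Module.Projective.of_equiv e.symm⟩
    · have hz := HomologicalComplex.isZero_single_obj_X (ComplexShape.up ℤ) 0 (ModuleCat.of R F) i h
      haveI : Subsingleton (((CochainComplex.singleFunctor (ModuleCat.{u} R) 0).obj (ModuleCat.of R F)).X i) :=
        ModuleCat.subsingleton_of_isZero hz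
      haveI := Module.Free.of_subsingleton R (((CochainComplex.singleFunctor (ModuleCat.{u} R) 0).obj (ModuleCat.of R F)).X i)
      exact ⟨finite_of_isZero hz, Module.Projective.of_free⟩

/-- A module is perfect iff it is pseudo-coherent and of finite tor dimension. -/
theorem perfect_iff : DRing.IsPerfectModule R M ↔
    (∀ m, DRing.IsPseudoCoherentModule R m M) ∧ DRing.HasFiniteTorDim R M := by
  constructor
  · intro h
    obtain ⟨hp, a, c, hac⟩ := isPerfect_iff.mp h
    obtain ⟨d, hd⟩ : ∃ d : ℕ, -(d : ℤ) ≤ a := ⟨(-a).toNat, by omega⟩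
    have h1 := hasTorAmplitudeIn_of_Hn_bound (c' := 0) (hasTorAmplitudeIn_mono hd (le_refl c) hac)
      (fun i hi => isZero_Hn_inD M (by omega))
    exact ⟨hp, d, (Groth.Agent.S6946.result R M d).1.2 h1⟩
  · rintro ⟨hp, d, hd⟩
    exact isPerfect_iff.mpr ⟨hp, _, _, (Groth.Agent.S6946.result R M d).1.1 hd⟩

theorem pcoh'_iff : DRing.IsPseudoCoherentModule' R M ↔ ∀ m, DRing.IsPseudoCoherentModule R m M :=
  isPseudoCoherent'_iff_forall

theorem pcoh'_of_finite [IsNoetherianRing R] [Module.Finite R M] : DRing.IsPseudoCoherentModule' R M := by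
  refine pcoh'_iff.2 fun m => ?_
  refine isPseudoCoherent_of_finite_noetherian (b := 0) (fun i hi => isZero_Hn_inD M (by omega)) fun i _ => ?_
  rcases eq_or_ne i 0 with rfl | hi
  · exact Module.Finite.equiv (inDEquiv (R := R) M).symm
  · exact finite_of_isZero (isZero_Hn_inD M hi)

/-- A finitely presented module over a flat finitely presented algebra, flat over the base, is pseudo-coherent. -/
theorem pcoh_of_flat {A B : Type u} [CommRing A] [CommRing B] [Algebra A B] [Algebra.FinitePresentation A B]
    [Module.Flat A B] : ∀ (m : ℕ) (M : Type u) [AddCommGroup M] [Module B M] [Module A M] [IsScalarTower A B M]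
      [Module.FinitePresentation B M] [Module.Flat A M], DRing.IsPseudoCoherentModule B (-(m : ℤ)) M
  | 0, M, _, _, _, _, _, _ => pcoh_nonneg le_rfl
  | m + 1, M, _, _, _, _, _, _ => by
    obtain ⟨n, g, hg, _, _⟩ := PDLib.exists_step (A := A) (B := B) M
    refine pcoh_of_ker g hg ((perfect_iff.1 perfect_of_finite_free).1 _) ?_
    rw [show (-((m + 1 : ℕ) : ℤ) + 1) = -(m : ℤ) by omega]
    exact pcoh_of_flat (A := A) m (LinearMap.ker g)

theorem pcoh'_of_flat {A B : Type u} [CommRing A] [CommRing B] [Algebra A B] [Algebra.FinitePresentation A B]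
    [Module.Flat A B] (M : Type u) [AddCommGroup M] [Module B M] [Module A M] [IsScalarTower A B M]
    [Module.FinitePresentation B M] [Module.Flat A M] : DRing.IsPseudoCoherentModule' B M :=
  pcoh'_iff.2 fun m => isPseudoCoherent_mono (show -(((-m).toNat : ℕ) : ℤ) ≤ m by omega)
    (pcoh_of_flat (A := A) _ M)

/-- A module with a finite free flat-resolution-type chain is perfect. -/
theorem hasFiniteTorDim_of_flat [Module.Flat R M] : DRing.HasFiniteTorDim R M :=
  CILib.hasFiniteTorDim_of_FD (n := 0) (show Module.Flat R M from inferInstance)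

end PerfModLib
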