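import Groth.Agent.DiagLib.FD
import Mathlib

/-!
# Bounded flat resolutions over polynomial rings
-/

set_option autoImplicit false
set_option linter.style.haveILetI false

noncomputable section

universe u

open TensorProduct TorDimLib Polynomial

namespace PerfModLib

/-- A module over `A[X]` flat over `A` has a flat resolution of length one. -/
theorem fd_one_polynomial {A : Type u} [CommRing A] (M : Type u) [AddCommGroup M] [Module A[X] M] [Module A M]
    [IsScalarTower A A[X] M] [Module.Flat A M] : DiagLib.FD A[X] 1 M := by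
  let T := A[X] ⊗[A] M
  let ξ : M →ₗ[A] M := (LinearMap.lsmul A[X] M (X : A[X])).restrictScalars A
  let μ : T →ₗ[A[X]] M := LinearMap.liftBaseChange A[X] LinearMap.id
  let δ : T →ₗ[A[X]] T := (X : A[X]) • LinearMap.id - ξ.baseChange A[X]
  have hμt : ∀ (p : A[X]) (m : M), μ (p ⊗ₜ[A] m) = p • m := fun p m => LinearMap.liftBaseChange_tmul _ _ _ _
  have hδt : ∀ (p : A[X]) (m : M), δ (p ⊗ₜ[A] m) = (X * p) ⊗ₜ[A] m - p ⊗ₜ[A] ((X : A[X]) • m) := fun p m => rfl
  have hμ : Function.Surjective μ := fun m => ⟨1 ⊗ₜ m, by rw [hμt, one_smul]⟩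
  have key : ∀ (p : A[X]) (m : M), p ⊗ₜ[A] m - 1 ⊗ₜ[A] (p • m) ∈ LinearMap.range δ := by
    intro p
    induction p using Polynomial.induction_on with
    | C a =>
      intro m
      rw [show (C a : A[X]) = a • 1 from by rw [Algebra.smul_def, _root_.mul_one]; rfl,
        TensorProduct.smul_tmul, smul_assoc, one_smul, sub_self]
      exact zero_mem _
    | add p q hp hq =>
      intro m
      rw [add_tmul, add_smul, tmul_add, add_sub_add_comm]
      exact add_mem (hp m) (hq m)
    | monomial k a h =>
      intro m
      have e : (C a * X ^ (k + 1) : A[X]) = X * (C a * X ^ k) := by ring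
      rw [e]
      have h1 := hδt (C a * X ^ k) m
      have h2 : (X * (C a * X ^ k)) ⊗ₜ[A] m - 1 ⊗ₜ[A] ((X * (C a * X ^ k)) • m) =
          δ ((C a * X ^ k) ⊗ₜ[A] m) + ((C a * X ^ k) ⊗ₜ[A] ((X : A[X]) • m) -
            1 ⊗ₜ[A] ((C a * X ^ k) • (X : A[X]) • m)) := by
        rw [h1, smul_smul, mul_comm X (C a * X ^ k)]
        abel
      rw [h2]
      exact add_mem ⟨_, rfl⟩ (h _)
  have key2 : ∀ t : T, t - 1 ⊗ₜ[A] μ t ∈ LinearMap.range δ := by
    intro t
    induction t using TensorProduct.induction_on with
    | zero => simp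
    | tmul p m => rw [hμt]; exact key p m
    | add a b ha hb =>
      rw [map_add, tmul_add, add_sub_add_comm]
      exact add_mem ha hb
  have hrange : LinearMap.ker μ = LinearMap.range δ := by
    refine le_antisymm (fun t ht => ?_) ?_
    · have h := key2 t
      rwa [LinearMap.mem_ker.1 ht, tmul_zero, sub_zero] at h
    · rintro _ ⟨t, rfl⟩
      rw [LinearMap.mem_ker]
      induction t using TensorProduct.induction_on with
      | zero => simp
      | tmul p m => rw [hδt, map_sub, hμt, hμt, mul_comm, mul_smul, sub_self]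
      | add a b ha hb => rw [map_add, map_add, ha, hb, add_zero]
  have hinj : Function.Injective δ := by
    rw [injective_iff_map_eq_zero]
    intro t ht
    let e : T ≃ₗ[A] ℕ →₀ M := TensorProduct.equivFinsuppOfBasisLeft (Polynomial.basisMonomials A)
    have hc : ∀ (s : T) (n : ℕ), e (δ s) (n + 1) = e s n - ξ (e s (n + 1)) := by
      intro s n
      induction s using TensorProduct.induction_on with
      | zero => simp
      | tmul p m =>
        rw [hδt, map_sub, Finsupp.sub_apply]
        have hev : ∀ (q : A[X]) (x : M) (i : ℕ), e (q ⊗ₜ[A] x) i = q.coeff i • x := fun q x i =>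
          (TensorProduct.equivFinsuppOfBasisLeft_apply_tmul_apply (Polynomial.basisMonomials A) q x i).trans rfl
        rw [hev, hev, hev, hev, map_smul, Polynomial.coeff_X_mul]
        rfl
      | add a b ha hb =>
        simp only [map_add, Finsupp.add_apply]
        rw [ha, hb]
        abel
    have hz : ∀ (k n : ℕ), e t n = (ξ ^ k) (e t (n + k)) := by
      intro k
      induction k with
      | zero => intro n; simp
      | succ k ih =>
        intro n
        rw [ih n]
        have h := hc t (n + k)
        rw [ht, map_zero, Finsupp.zero_apply] at h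
        rw [sub_eq_zero.1 h.symm, pow_succ, Module.End.mul_apply, add_assoc]
    refine e.injective (Finsupp.ext fun n => ?_)
    rw [map_zero, Finsupp.zero_apply]
    rcases (e t).support.eq_empty_or_nonempty with h0 | h0
    · rw [Finsupp.support_eq_empty.1 h0]; rfl
    · rw [hz ((e t).support.max' h0 + 1) n,
        Finsupp.notMem_support_iff.1 fun hm => absurd ((e t).support.le_max' _ hm) (by omega), map_zero]
  refine ⟨T, inferInstance, inferInstance, μ, inferInstance, hμ, ?_⟩
  show Module.Flat A[X] (LinearMap.ker μ)
  exact Module.Flat.of_linearEquiv ((LinearEquiv.ofInjective δ hinj).trans (LinearEquiv.ofEq _ _ hrange.symm)).symm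

/-- A bounded flat resolution over `A` gives one over `A[X]`. -/
theorem fd_polynomial : ∀ (d : ℕ) {A : Type u} [CommRing A] (M : Type u) [AddCommGroup M] [Module A[X] M]
    [Module A M] [IsScalarTower A A[X] M], DiagLib.FD A d M → DiagLib.FD A[X] (d + 1) M
  | 0, A, _, M, _, _, _, _, h =>
    haveI : Module.Flat A M := h
    fd_one_polynomial M
  | d + 1, A, _, M, _, _, _, _, h => by
    let g : (M →₀ A[X]) →ₗ[A[X]] M := Finsupp.linearCombination A[X] _root_.id
    have hg : Function.Surjective g := fun m => ⟨Finsupp.single m 1, by simp [g]⟩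
    haveI : Module.Flat A A[X] := inferInstance
    haveI : Module.Flat A (M →₀ A[X]) := inferInstance
    refine ⟨M →₀ A[X], inferInstance, inferInstance, g, inferInstance, hg, fd_polynomial d (LinearMap.ker g) ?_⟩
    refine DiagLib.FD_of_exactAtSucc d fun N Q p hp => ?_
    exact exactAtSucc_shift ((LinearMap.ker g).subtype.restrictScalars A) (g.restrictScalars A)
      Subtype.val_injective (LinearMap.exact_subtype_ker_map g) hg Q p
      (DiagLib.exactAtSucc_of_FD (d + 1) h N Q (p + 1) (by omega))

/-- A bounded flat resolution over `A` gives one over a polynomial ring. -/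
theorem fd_mvPolynomial (A : Type u) [CommRing A] : ∀ (n d : ℕ) (M : Type u) [AddCommGroup M]
    [Module (MvPolynomial (Fin n) A) M] [Module A M] [IsScalarTower A (MvPolynomial (Fin n) A) M],
    DiagLib.FD A d M → DiagLib.FD (MvPolynomial (Fin n) A) (d + n) M
  | 0, d, M, _, _, _, _, h => by
    let e := MvPolynomial.isEmptyAlgEquiv A (Fin 0)
    letI : Algebra (MvPolynomial (Fin 0) A) A := e.toAlgHom.toRingHom.toAlgebra
    haveI : Module.Flat (MvPolynomial (Fin 0) A) A := RingHom.Flat.of_bijective e.bijective
    haveI : IsScalarTower (MvPolynomial (Fin 0) A) A M := IsScalarTower.of_algebraMap_smul fun p m => by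
      show e p • m = p • m
      obtain ⟨a, rfl⟩ : ∃ a, MvPolynomial.C a = p := ⟨_, (MvPolynomial.eq_C_of_isEmpty p).symm⟩
      rw [← MvPolynomial.algebraMap_eq, AlgEquiv.commutes]
      exact (IsScalarTower.algebraMap_smul (MvPolynomial (Fin 0) A) a m).symm
    exact DiagLib.FD.restrict (P := A) (C := MvPolynomial (Fin 0) A) d h
  | n + 1, d, M, _, _, _, _, h => by
    let Q := MvPolynomial (Fin n) A
    let P := MvPolynomial (Fin (n + 1)) A
    let e : P ≃ₐ[A] Q[X] := MvPolynomial.finSuccEquiv A n
    letI mX : Module Q[X] M := Module.compHom M e.symm.toAlgHom.toRingHom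
    letI mQ : Module Q M := Module.compHom M (e.symm.toAlgHom.toRingHom.comp (algebraMap Q Q[X]))
    haveI : IsScalarTower Q Q[X] M := IsScalarTower.of_algebraMap_smul fun _ _ => rfl
    haveI : IsScalarTower A Q M := IsScalarTower.of_algebraMap_smul fun a m => by
      show e.symm (algebraMap Q Q[X] (algebraMap A Q a)) • m = a • m
      rw [← IsScalarTower.algebraMap_apply A Q Q[X], AlgEquiv.commutes, IsScalarTower.algebraMap_smul]
    letI : Algebra P Q[X] := e.toAlgHom.toRingHom.toAlgebra
    haveI : Module.Flat P Q[X] := RingHom.Flat.of_bijective e.bijective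
    haveI : IsScalarTower P Q[X] M := IsScalarTower.of_algebraMap_smul fun p m => by
      show e.symm (e p) • m = p • m
      rw [AlgEquiv.symm_apply_apply]
    exact DiagLib.FD.restrict (P := Q[X]) (C := P) (d + n + 1) (fd_polynomial (d + n) M (fd_mvPolynomial A n d M h))

end PerfModLib
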