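import Groth.Agent.PerfModLib.Koszul
import Groth.Agent.PerfModLib.Poly
import Groth.Agent.S5165
import Groth.Agent.CILib.MinGen
import Groth.Prelude.Def_MoreMor
import Mathlib

/-!
# Perfect ring maps
-/

set_option autoImplicit false
set_option linter.style.haveILetI false

noncomputable section

universe u

open CategoryTheory
attribute [local instance] HasDerivedCategory.standard

namespace PerfModLib

variable {A B : Type u} [CommRing A] [CommRing B] [Algebra A B]

/-- Perfect over a presentation gives a perfect map. -/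
theorem isPerfectHom_of_perfect {n : ℕ} (φ : MvPolynomial (Fin n) A →ₐ[A] B) (hφ : Function.Surjective φ)
    (h : letI := φ.toRingHom.toAlgebra
      DRing.IsPerfectModule (MvPolynomial (Fin n) A) B) : MoreMor.IsPerfectHom A B := by
  letI := φ.toRingHom.toAlgebra
  haveI : IsScalarTower A (MvPolynomial (Fin n) A) B := IsScalarTower.of_algebraMap_eq fun a => (φ.commutes a).symm
  obtain ⟨hp, hd⟩ := perfect_iff.1 h
  obtain ⟨d, hd'⟩ := DiagLib.exists_FD_of_hasFiniteTorDim hd
  haveI : Module.Flat A (MvPolynomial (Fin n) A) := inferInstance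
  exact ⟨⟨n, φ, hφ, pcoh'_iff.2 hp⟩, CILib.hasFiniteTorDim_of_FD (DiagLib.FD.restrict d hd')⟩

theorem exists_perfect_of_isPerfectHom (h : MoreMor.IsPerfectHom A B) :
    ∃ (n : ℕ) (φ : MvPolynomial (Fin n) A →ₐ[A] B), Function.Surjective φ ∧
      letI := φ.toRingHom.toAlgebra
      DRing.IsPerfectModule (MvPolynomial (Fin n) A) B := by
  obtain ⟨⟨n, φ, hφ, hp⟩, hd⟩ := h
  obtain ⟨d, hd'⟩ := DiagLib.exists_FD_of_hasFiniteTorDim hd
  refine ⟨n, φ, hφ, ?_⟩
  letI := φ.toRingHom.toAlgebra
  haveI : IsScalarTower A (MvPolynomial (Fin n) A) B := IsScalarTower.of_algebraMap_eq fun a => (φ.commutes a).symm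
  exact perfect_iff.2 ⟨pcoh'_iff.1 hp, CILib.hasFiniteTorDim_of_FD (fd_mvPolynomial A n d B hd')⟩

theorem isPerfectHom_iff : MoreMor.IsPerfectHom A B ↔
    ∃ (n : ℕ) (φ : MvPolynomial (Fin n) A →ₐ[A] B), Function.Surjective φ ∧
      letI := φ.toRingHom.toAlgebra
      DRing.IsPerfectModule (MvPolynomial (Fin n) A) B :=
  ⟨exists_perfect_of_isPerfectHom, fun ⟨_, φ, hφ, h⟩ => isPerfectHom_of_perfect φ hφ h⟩

theorem isPseudoCoherentHom_of_noetherian [IsNoetherianRing A] [Algebra.FiniteType A B] :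
    MoreMor.IsPseudoCoherentHom A B := by
  obtain ⟨n, φ, hφ⟩ := Algebra.FiniteType.iff_quotient_mvPolynomial''.1 ‹Algebra.FiniteType A B›
  refine ⟨n, φ, hφ, ?_⟩
  letI := φ.toRingHom.toAlgebra
  haveI : Module.Finite (MvPolynomial (Fin n) A) B := Module.Finite.of_surjective (Algebra.linearMap _ B) hφ
  exact pcoh'_of_finite

theorem isPerfectHom_of_flat [Module.Flat A B] [Algebra.FinitePresentation A B] : MoreMor.IsPerfectHom A B := by
  obtain ⟨n, φ, hφ, hker⟩ := Algebra.FinitePresentation.out (R := A) (A := B)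
  refine ⟨⟨n, φ, hφ, ?_⟩, hasFiniteTorDim_of_flat⟩
  letI := φ.toRingHom.toAlgebra
  haveI : IsScalarTower A (MvPolynomial (Fin n) A) B := IsScalarTower.of_algebraMap_eq fun a => (φ.commutes a).symm
  haveI : Module.FinitePresentation (MvPolynomial (Fin n) A) B :=
    Module.finitePresentation_of_surjective (Algebra.linearMap (MvPolynomial (Fin n) A) B) hφ hker
  exact pcoh'_of_flat (A := A) B

theorem isPerfectHom_of_isRegularRing [IsRegularRing A] [Algebra.FiniteType A B] : MoreMor.IsPerfectHom A B := by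
  obtain ⟨n, φ, hφ⟩ := Algebra.FiniteType.iff_quotient_mvPolynomial''.1 ‹Algebra.FiniteType A B›
  refine isPerfectHom_of_perfect φ hφ ?_
  letI := φ.toRingHom.toAlgebra
  haveI : Module.Finite (MvPolynomial (Fin n) A) B := Module.Finite.of_surjective (Algebra.linearMap _ B) hφ
  obtain ⟨d, hd⟩ := Groth.Agent.S5165.result (MvPolynomial (Fin n) A) B
  exact perfect_iff.2 ⟨pcoh'_iff.1 pcoh'_of_finite, CILib.hasFiniteTorDim_of_FD (CILib.FD_of_pdlt _ hd)⟩

theorem isPerfectHom_of_isLCI (h : LCI.IsLCI A B) : MoreMor.IsPerfectHom A B := by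
  obtain ⟨-, n, φ, hφ, hk⟩ := h
  refine isPerfectHom_of_perfect φ hφ ?_
  letI := φ.toRingHom.toAlgebra
  exact perfect_of_equiv
    (Ideal.quotientKerAlgEquivOfSurjective (f := Algebra.ofId (MvPolynomial (Fin n) A) B) hφ).toLinearEquiv
    (perfect_quotient_of_locKR _ ((KRLib.locKR_iff _).2 hk))

theorem finitePresentation_of_isPseudoCoherentHom (h : MoreMor.IsPseudoCoherentHom A B) :
    Algebra.FinitePresentation A B := by
  obtain ⟨n, φ, hφ, hp⟩ := h
  letI := φ.toRingHom.toAlgebra
  haveI : IsScalarTower A (MvPolynomial (Fin n) A) B := IsScalarTower.of_algebraMap_eq fun a => (φ.commutes a).symm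
  haveI : Module.FinitePresentation (MvPolynomial (Fin n) A) B :=
    (Groth.Agent.S6935.result _ B).2.1 (pcoh'_iff.1 hp (-1))
  exact Algebra.FinitePresentation.of_surjective hφ
    (Module.FinitePresentation.fg_ker (Algebra.linearMap (MvPolynomial (Fin n) A) B) hφ)

end PerfModLib
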