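import Groth.Agent.PerfModLib.Local
import Groth.Agent.LCILocusLib.Scheme
import Groth.Agent.KoszAtLib.Basic
import Groth.Agent.RegLCILib.Scheme
import Groth.Agent.RelRegLib.RegularFibre
import Mathlib

/-!
# Perfect morphisms
-/

set_option autoImplicit false
set_option linter.style.haveILetI false
set_option backward.isDefEq.respectTransparency.types false

noncomputable section

universe u

open CategoryTheory CategoryTheory.Limits AlgebraicGeometry
attribute [local instance] HasDerivedCategory.standard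

namespace PerfModLib

/-- Perfect ring maps. -/
def PerfHom {R S : Type u} [CommRing R] [CommRing S] (f : R →+* S) : Prop :=
  letI := f.toAlgebra
  MoreMor.IsPerfectHom R S

theorem perfHom_algebraMap {R S : Type u} [CommRing R] [CommRing S] [Algebra R S] :
    PerfHom (algebraMap R S) ↔ MoreMor.IsPerfectHom R S := by
  rw [PerfHom, toAlgebra_algebraMap]

theorem PerfHom.comp {R S T : Type u} [CommRing R] [CommRing S] [CommRing T] {f : R →+* S} {g : S →+* T}
    (hf : PerfHom f) (hg : PerfHom g) : PerfHom (g.comp f) := by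
  letI := f.toAlgebra
  letI := g.toAlgebra
  letI : Algebra R T := (g.comp f).toAlgebra
  haveI : IsScalarTower R S T := IsScalarTower.of_algebraMap_eq fun _ => rfl
  exact isPerfectHom_comp (B := S) (C := T) hf hg

theorem perfHom_ofLocalizationSpanTarget : RingHom.OfLocalizationSpanTarget @PerfHom := by
  rw [RingHom.ofLocalizationSpanTarget_iff_finite]
  intro R S _ _ f s hs h
  letI := f.toAlgebra
  refine isPerfectHom_of_span_eq_top s hs fun g hg => ?_
  have h1 := h ⟨g, hg⟩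
  rw [show (algebraMap S (Localization.Away g)).comp f = algebraMap R (Localization.Away g) from rfl] at h1
  exact perfHom_algebraMap.1 h1

theorem perfHom_stableUnderCompositionSource :
    RingHom.StableUnderCompositionWithLocalizationAwaySource @PerfHom := by
  intro R S T _ _ _ _ r _ f h
  exact PerfHom.comp (perfHom_algebraMap.2 (isPerfectHom_away r)) h

theorem perfHom_stableUnderCompositionTarget :
    RingHom.StableUnderCompositionWithLocalizationAwayTarget @PerfHom := by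
  intro R S T _ _ _ _ s _ f h
  exact PerfHom.comp h (perfHom_algebraMap.2 (isPerfectHom_away s))

theorem perfHom_localizationAwayPreserves : RingHom.LocalizationAwayPreserves @PerfHom := by
  intro R S _ _ f r R' S' _ _ _ _ _ _ h
  letI := f.toAlgebra
  letI : Algebra R S' := ((algebraMap S S').comp f).toAlgebra
  haveI : IsScalarTower R S S' := IsScalarTower.of_algebraMap_eq fun _ => rfl
  letI : Algebra R' S' := (IsLocalization.Away.map R' S' f r).toAlgebra
  haveI : IsScalarTower R R' S' := IsScalarTower.of_algebraMap_eq fun x => by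
    show algebraMap R S' x = IsLocalization.Away.map R' S' f r (algebraMap R R' x)
    rw [IsLocalization.Away.map, IsLocalization.map_eq]
    rfl
  haveI : IsLocalization (Algebra.algebraMapSubmonoid S (Submonoid.powers r)) S' := by
    rw [Algebra.algebraMapSubmonoid, Submonoid.map_powers]
    exact inferInstanceAs (IsLocalization.Away (f r) S')
  haveI : Algebra.IsPushout R R' S S' :=
    Algebra.IsPushout.symm (Algebra.isPushout_of_isLocalization (Submonoid.powers r) R' S S')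
  haveI : Module.Flat R R' := IsLocalization.flat R' (Submonoid.powers r)
  exact isPerfectHom_baseChange (A' := R') (B' := S') h

theorem perfHom_isLocal : RingHom.PropertyIsLocal @PerfHom :=
  ⟨perfHom_localizationAwayPreserves, perfHom_ofLocalizationSpanTarget,
    perfHom_ofLocalizationSpanTarget.ofLocalizationSpan perfHom_stableUnderCompositionSource,
    perfHom_stableUnderCompositionTarget⟩

/-- Affine-locally perfect morphisms. -/
def PerfMor : MorphismProperty Scheme.{u} :=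
  affineLocally PerfHom

instance : HasRingHomProperty PerfMor.{u} PerfHom :=
  ⟨perfHom_isLocal, rfl⟩

theorem perfMor_iff {X S : Scheme.{u}} (f : X ⟶ S) : MoreMor.IsPerfectMor f ↔ PerfMor f := by
  refine ⟨fun h => ?_, fun h U V hU hV e => HasRingHomProperty.appLE (P := PerfMor) f h ⟨V, hV⟩ ⟨U, hU⟩ e⟩
  rw [HasRingHomProperty.iff_exists_appLE (P := PerfMor) perfHom_stableUnderCompositionSource]
  intro x
  obtain ⟨V, hV, hxV, -⟩ := exists_isAffineOpen_mem_and_subset (x := f x) (U := ⊤) trivial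
  obtain ⟨U, hU, hxU, hUV⟩ := exists_isAffineOpen_mem_and_subset (x := x) (U := f ⁻¹ᵁ V) hxV
  exact ⟨⟨V, hV⟩, ⟨U, hU⟩, hxU, hUV, h U V hU hV hUV⟩

theorem perfMor_of_exists {X S : Scheme.{u}} (f : X ⟶ S)
    (h : ∀ x : X, ∃ (U : X.Opens) (V : S.Opens) (hUV : U ≤ f ⁻¹ᵁ V), IsAffineOpen U ∧ IsAffineOpen V ∧ x ∈ U ∧
      PerfHom (f.appLE V U hUV).hom) : MoreMor.IsPerfectMor f := by
  rw [perfMor_iff, HasRingHomProperty.iff_exists_appLE (P := PerfMor) perfHom_stableUnderCompositionSource]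
  intro x
  obtain ⟨U, V, e, hU, hV, hx, hp⟩ := h x
  exact ⟨⟨V, hV⟩, ⟨U, hU⟩, hx, e, hp⟩

theorem perfectMor_iff_exists {X S : Scheme.{u}} (f : X ⟶ S) : MoreMor.IsPerfectMor f ↔
    ∀ x : X, ∃ (U : X.Opens) (V : S.Opens) (hUV : U ≤ f ⁻¹ᵁ V), IsAffineOpen U ∧ IsAffineOpen V ∧ x ∈ U ∧
      PerfHom (f.appLE V U hUV).hom := by
  refine ⟨fun h x => ?_, perfMor_of_exists f⟩
  obtain ⟨V, hV, hxV, -⟩ := exists_isAffineOpen_mem_and_subset (x := f x) (U := ⊤) trivial
  obtain ⟨U, hU, hxU, hUV⟩ := exists_isAffineOpen_mem_and_subset (x := x) (U := f ⁻¹ᵁ V) hxV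
  exact ⟨U, V, hUV, hU, hV, hxU, h U V hU hV hUV⟩

theorem perfectMor_comp {X Y Z : Scheme.{u}} (f : X ⟶ Y) (g : Y ⟶ Z) (hf : MoreMor.IsPerfectMor f)
    (hg : MoreMor.IsPerfectMor g) : MoreMor.IsPerfectMor (f ≫ g) := by
  refine perfMor_of_exists _ fun x => ?_
  obtain ⟨V, hV, hxV, -⟩ := exists_isAffineOpen_mem_and_subset (x := g (f x)) (U := ⊤) trivial
  obtain ⟨W, hW, hxW, hWV⟩ := exists_isAffineOpen_mem_and_subset (x := f x) (U := g ⁻¹ᵁ V) hxV
  obtain ⟨U, hU, hxU, hUW⟩ := exists_isAffineOpen_mem_and_subset (x := x) (U := f ⁻¹ᵁ W) hxW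
  have hWV' : W ≤ g ⁻¹ᵁ V := hWV
  have hUW' : U ≤ f ⁻¹ᵁ W := hUW
  refine ⟨U, V, (hUW'.trans (f.preimage_mono hWV')).trans_eq (Scheme.Hom.comp_preimage f g V).symm, hU, hV, hxU, ?_⟩
  rw [← Scheme.Hom.appLE_comp_appLE f g V W U hWV' hUW', CommRingCat.hom_comp]
  exact PerfHom.comp (hg W V hW hV hWV') (hf U W hU hW hUW')

theorem perfectMor_baseChange {X S X' S' : Scheme.{u}} (f : X ⟶ S) (f' : X' ⟶ S') (g' : X' ⟶ X) (g : S' ⟶ S)
    [Flat g] (hc : IsPullback g' f' f g) (hf : MoreMor.IsPerfectMor f) : MoreMor.IsPerfectMor f' := by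
  refine perfMor_of_exists _ fun x' => ?_
  obtain ⟨T, hT, hxT, -⟩ := exists_isAffineOpen_mem_and_subset (x := f (g' x')) (U := ⊤) trivial
  have hsT : g (f' x') ∈ T := by
    rw [← Scheme.Hom.comp_apply, ← hc.w]
    exact hxT
  obtain ⟨U, hU, hxU, hUT⟩ := exists_isAffineOpen_mem_and_subset (x := g' x') (U := f ⁻¹ᵁ T) hxT
  obtain ⟨T', hT', hxT', eT⟩ := exists_isAffineOpen_mem_and_subset (x := f' x') (U := g ⁻¹ᵁ T) hsT
  have hUT' : U ≤ f ⁻¹ᵁ T := hUT
  have eT' : T' ≤ g ⁻¹ᵁ T := eT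
  obtain ⟨hU', hp⟩ := LCILocusLib.pullback_chart hc hT hT' eT' hU hUT'
  refine ⟨g' ⁻¹ᵁ U ⊓ f' ⁻¹ᵁ T', T', inf_le_right, hU', hT', ⟨hxU, hxT'⟩, ?_⟩
  let U' := g' ⁻¹ᵁ U ⊓ f' ⁻¹ᵁ T'
  letI : Algebra Γ(S, T) Γ(S', T') := (g.appLE T T' eT').hom.toAlgebra
  letI : Algebra Γ(S, T) Γ(X, U) := (f.appLE T U hUT').hom.toAlgebra
  letI : Algebra Γ(S', T') Γ(X', U') := (f'.appLE T' U' inf_le_right).hom.toAlgebra
  letI : Algebra Γ(X, U) Γ(X', U') := (g'.appLE U U' inf_le_left).hom.toAlgebra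
  letI : Algebra Γ(S, T) Γ(X', U') := (f.appLE T U hUT' ≫ g'.appLE U U' inf_le_left).hom.toAlgebra
  haveI : IsScalarTower Γ(S, T) Γ(X, U) Γ(X', U') := IsScalarTower.of_algebraMap_eq fun _ => rfl
  haveI : IsScalarTower Γ(S, T) Γ(S', T') Γ(X', U') :=
    IsScalarTower.of_algebraMap_eq' (congrArg CommRingCat.Hom.hom hp.w)
  haveI : Algebra.IsPushout Γ(S, T) Γ(X, U) Γ(S', T') Γ(X', U') := CommRingCat.isPushout_iff_isPushout.mp hp
  haveI : Algebra.IsPushout Γ(S, T) Γ(S', T') Γ(X, U) Γ(X', U') := .symm inferInstance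
  haveI : Module.Flat Γ(S, T) Γ(S', T') := g.flat_appLE hT hT' eT'
  exact isPerfectHom_baseChange (A' := Γ(S', T')) (B' := Γ(X', U')) (hf U T hU hT hUT')

theorem perfectMor_of_flat {X S : Scheme.{u}} (f : X ⟶ S) [Flat f] [LocallyOfFinitePresentation f] :
    MoreMor.IsPerfectMor f := fun U V hU hV e => by
  letI := (f.appLE V U e).hom.toAlgebra
  haveI : Module.Flat Γ(S, V) Γ(X, U) := f.flat_appLE hV hU e
  haveI : Algebra.FinitePresentation Γ(S, V) Γ(X, U) := f.finitePresentation_appLE hV hU e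
  exact isPerfectHom_of_flat

theorem perfectMor_of_regular {X S : Scheme.{u}} (f : X ⟶ S) [LocallyOfFiniteType f] [IsLocallyNoetherian S]
    (hreg : ∀ s : S, IsRegularLocalRing (S.presheaf.stalk s)) : MoreMor.IsPerfectMor f := fun U V hU hV e => by
  letI := (f.appLE V U e).hom.toAlgebra
  haveI := RegLCILib.isRegularRing_section hreg hV
  haveI : Algebra.FiniteType Γ(S, V) Γ(X, U) := f.finiteType_appLE hV hU e
  exact isPerfectHom_of_isRegularRing

theorem perfectMor_of_lciMor {X S : Scheme.{u}} (f : X ⟶ S) (h : KoszAtLib.LCIMor f) :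
    MoreMor.IsPerfectMor f := fun U V hU hV e => by
  letI := (f.appLE V U e).hom.toAlgebra
  exact isPerfectHom_of_isLCI (HasRingHomProperty.appLE (P := KoszAtLib.LCIMor) f h ⟨V, hV⟩ ⟨U, hU⟩ e)

theorem lfp_of_perfectMor {X S : Scheme.{u}} (f : X ⟶ S) (h : MoreMor.IsPerfectMor f) :
    LocallyOfFinitePresentation f :=
  ⟨fun {V} hV {U} hU e => by
    letI := (f.appLE V U e).hom.toAlgebra
    exact finitePresentation_of_isPseudoCoherentHom (h U V hU hV e).1⟩

theorem perfectMor_of_regularClosedImmersion {Z X : Scheme.{u}} (i : Z ⟶ X) (h : Mor2.IsRegularClosedImmersion i) :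
    MoreMor.IsPerfectMor i :=
  perfectMor_of_lciMor i (KoszAtLib.lciMor_of_regularImmersion i
    (KoszAtLib.koszul_of_regular _ (RelRegLib.regularImmersion_of_RCI _ h)))

end PerfModLib
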