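import Groth.Agent.PerfModLib.Pcoh
import Mathlib

/-!
# Descent of pseudo-coherent and perfect morphisms along faithfully flat base change
-/

set_option autoImplicit false
set_option linter.style.haveILetI false
set_option backward.isDefEq.respectTransparency.types false

noncomputable section

universe u

open CategoryTheory CategoryTheory.Limits AlgebraicGeometry TensorProduct
attribute [local instance] HasDerivedCategory.standard

namespace PerfModLib

section Ring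

variable {A B A' : Type u} [CommRing A] [CommRing B] [CommRing A'] [Algebra A B] [Algebra A A']
  [Module.FaithfullyFlat A A'] (B' : Type u) [CommRing B'] [Algebra A' B'] [Algebra B B'] [Algebra A B']
  [IsScalarTower A A' B'] [IsScalarTower A B B'] [Algebra.IsPushout A A' B B']

include B' in
theorem exists_presentation_baseChange [Algebra.FinitePresentation A' B'] :
    ∃ (n : ℕ) (φ : MvPolynomial (Fin n) A →ₐ[A] B) (φ' : MvPolynomial (Fin n) A' →ₐ[A'] B'),
      Function.Surjective φ ∧ Function.Surjective φ' ∧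
      ∀ i, φ' (MvPolynomial.X i) = algebraMap B B' (φ (MvPolynomial.X i)) := by
  haveI : Algebra.FinitePresentation A' (A' ⊗[A] B) :=
    Algebra.FinitePresentation.equiv (Algebra.IsPushout.equiv A A' B B').symm
  haveI : Algebra.FinitePresentation A B :=
    Algebra.FinitePresentation.of_finitePresentation_tensorProduct_of_faithfullyFlat A'
  obtain ⟨n, φ, hφ⟩ := Algebra.FiniteType.iff_quotient_mvPolynomial''.1 (inferInstance : Algebra.FiniteType A B)
  let φ' : MvPolynomial (Fin n) A' →ₐ[A'] B' := MvPolynomial.aeval fun i => algebraMap B B' (φ (MvPolynomial.X i))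
  refine ⟨n, φ, φ', hφ, ?_, fun i => MvPolynomial.aeval_X _ _⟩
  intro b'
  obtain ⟨t, rfl⟩ := (Algebra.IsPushout.equiv A A' B B').surjective b'
  induction t using TensorProduct.induction_on with
  | zero => exact ⟨0, by rw [map_zero, map_zero]⟩
  | add a b ha hb =>
    obtain ⟨x, hx⟩ := ha
    obtain ⟨y, hy⟩ := hb
    exact ⟨x + y, by rw [map_add, hx, hy, ← map_add]⟩
  | tmul a b =>
    obtain ⟨p, rfl⟩ := hφ b
    refine ⟨MvPolynomial.C a * MvPolynomial.map (algebraMap A A') p, ?_⟩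
    rw [Algebra.IsPushout.equiv_tmul, map_mul, MvPolynomial.aeval_C, MvPolynomial.aeval_map_algebraMap]
    congr 1
    exact congrArg (fun ψ : MvPolynomial (Fin n) A →ₐ[A] B' => ψ p)
      (MvPolynomial.algHom_ext (f := MvPolynomial.aeval fun i => algebraMap B B' (φ (MvPolynomial.X i)))
        (g := (IsScalarTower.toAlgHom A B B').comp φ) fun i => by simp)

attribute [local instance] MvPolynomial.algebraMvPolynomial

/-- The main computation. -/
theorem exists_descent_data [Algebra.FinitePresentation A' B'] :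
    ∃ (n : ℕ) (φ : MvPolynomial (Fin n) A →ₐ[A] B), Function.Surjective φ ∧
      ∀ {m : ℤ},
        (letI := φ.toRingHom.toAlgebra
         MoreMor.IsPseudoCoherentHom A' B' → DRing.IsPseudoCoherentModule (MvPolynomial (Fin n) A) m B) ∧
        (letI := φ.toRingHom.toAlgebra
         MoreMor.IsPerfectHom A' B' → DRing.IsPerfectModule (MvPolynomial (Fin n) A) B) := by
  obtain ⟨n, φ, φ', hφ, hφ', hX⟩ := exists_presentation_baseChange (A := A) (B := B) (A' := A') B'
  refine ⟨n, φ, hφ, fun {m} => ?_⟩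
  let P := MvPolynomial (Fin n) A
  let P' := MvPolynomial (Fin n) A'
  letI : Algebra P B := φ.toRingHom.toAlgebra
  haveI : IsScalarTower A P B := IsScalarTower.of_algebraMap_eq fun a => (φ.commutes a).symm
  letI : Algebra P' B' := φ'.toRingHom.toAlgebra
  haveI : IsScalarTower A' P' B' := IsScalarTower.of_algebraMap_eq fun a => (φ'.commutes a).symm
  letI : Algebra P B' := ((algebraMap B B').comp φ.toRingHom).toAlgebra
  haveI : IsScalarTower P B B' := IsScalarTower.of_algebraMap_eq fun _ => rfl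
  haveI : IsScalarTower P P' B' := IsScalarTower.of_algebraMap_eq' (MvPolynomial.ringHom_ext (fun a => by
    show algebraMap B B' (φ (MvPolynomial.C a)) = φ' (MvPolynomial.map (algebraMap A A') (MvPolynomial.C a))
    rw [MvPolynomial.map_C, ← MvPolynomial.algebraMap_eq, ← MvPolynomial.algebraMap_eq, AlgHom.commutes,
      AlgHom.commutes, ← IsScalarTower.algebraMap_apply A B B', ← IsScalarTower.algebraMap_apply A A' B']) fun i => by
    show algebraMap B B' (φ (MvPolynomial.X i)) = φ' (MvPolynomial.map (algebraMap A A') (MvPolynomial.X i))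
    rw [MvPolynomial.map_X, hX])
  haveI : IsScalarTower A P B' := IsScalarTower.of_algebraMap_eq fun a => by
    rw [IsScalarTower.algebraMap_apply A B B', IsScalarTower.algebraMap_apply A P B]
    rfl
  haveI : IsScalarTower A P' B' := IsScalarTower.of_algebraMap_eq fun a => by
    rw [IsScalarTower.algebraMap_apply A A' B', IsScalarTower.algebraMap_apply A' P' B',
      ← IsScalarTower.algebraMap_apply A A' P']
  haveI : Algebra.IsPushout A B A' B' := .symm inferInstance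
  haveI h2 : Algebra.IsPushout P B P' B' :=
    (Algebra.IsPushout.comp_iff (R := A) (S := P) (R' := A') (S' := P') (T := B) (T' := B')).1 inferInstance
  haveI : Module.FaithfullyFlat P P' := Module.FaithfullyFlat.of_linearEquiv P (P ⊗[A] A')
    (inferInstance : Algebra.IsPushout A P A' P').out.equiv.symm
  let S : Unit → Type u := fun _ => P'
  have hS : Groth.Agent.DRingLib.DetectsZero (R := P) S :=
    Groth.Agent.DRingLib.detectsZero_of_faithfullyFlat (S := S) ()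
  let e : B' ≃ₗ[P'] P' ⊗[P] B := (Algebra.IsPushout.symm h2).out.equiv.symm
  let ι := (DerivedCategory.singleFunctorIsoCompQ (ModuleCat.{u} P) 0).app (ModuleCat.of P B)
  constructor
  · intro h
    exact Groth.Agent.DRingLib.isPseudoCoherent_of_iso ι.symm
      (Groth.Agent.DRingLib.isPseudoCoherent_of_family hS _ m fun i =>
        Groth.Agent.DRingLib.isPseudoCoherent_of_iso (Groth.Agent.DRingLib.extCxSingleIso (A := P) (B := P') B).symm
          (pcoh_of_equiv e (pcoh'_iff.1 (pcoh'_of_pcohHom (A := A') (R := P') hφ' h) m)))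
  · intro h
    obtain ⟨d, hd⟩ := DiagLib.exists_FD_of_hasFiniteTorDim h.2
    have hp : DRing.IsPerfectModule P' B' := perfect_iff.2 ⟨pcoh'_iff.1 (pcoh'_of_pcohHom (A := A') (R := P') hφ' h.1),
      CILib.hasFiniteTorDim_of_FD (fd_mvPolynomial A' n d B' hd)⟩
    exact Groth.Agent.DRingLib.isPerfect_of_iso ι.symm
      (Groth.Agent.DRingLib.isPerfect_of_family hS _ fun i =>
        Groth.Agent.DRingLib.isPerfect_of_iso (Groth.Agent.DRingLib.extCxSingleIso (A := P) (B := P') B).symm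
          (perfect_of_equiv e hp))

theorem pcohHom_descent (h : MoreMor.IsPseudoCoherentHom A' B') : MoreMor.IsPseudoCoherentHom A B := by
  haveI := finitePresentation_of_isPseudoCoherentHom h
  obtain ⟨n, φ, hφ, hkey⟩ := exists_descent_data (A := A) (B := B) (A' := A') B'
  letI := φ.toRingHom.toAlgebra
  exact ⟨n, φ, hφ, pcoh'_iff.2 fun m => (hkey (m := m)).1 h⟩

theorem isPerfectHom_descent (h : MoreMor.IsPerfectHom A' B') : MoreMor.IsPerfectHom A B := by
  haveI := finitePresentation_of_isPseudoCoherentHom h.1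
  obtain ⟨n, φ, hφ, hkey⟩ := exists_descent_data (A := A) (B := B) (A' := A') B'
  exact isPerfectHom_of_perfect φ hφ ((hkey (m := 0)).2 h)

end Ring

/-- The affine reduction for a base change along a flat surjective quasi-compact morphism. -/
theorem exists_chart {X S X' S' : Scheme.{u}} (f : X ⟶ S) (f' : X' ⟶ S') (g' : X' ⟶ X) (g : S' ⟶ S)
    [Flat g] [Surjective g] [QuasiCompact g] (hc : IsPullback g' f' f g) (x : X) :
    ∃ (U : X.Opens) (T : S.Opens) (hUT : U ≤ f ⁻¹ᵁ T) (T'' X'' : Scheme.{u}) (h : T'' ⟶ S') (f'' : X'' ⟶ T'')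
      (g'' : X'' ⟶ X') (U'' : X''.Opens),
      Flat h ∧ IsPullback g'' f'' f' h ∧ IsAffineOpen U ∧ IsAffineOpen T ∧ x ∈ U ∧ IsAffineOpen U'' ∧
      IsAffineOpen (⊤ : T''.Opens) ∧ ∃ (e1 : ⊤ ≤ (h ≫ g) ⁻¹ᵁ T) (e2 : U'' ≤ f'' ⁻¹ᵁ ⊤) (e3 : U'' ≤ (g'' ≫ g') ⁻¹ᵁ U),
        IsPushout (f.appLE T U hUT) ((h ≫ g).appLE T ⊤ e1) ((g'' ≫ g').appLE U U'' e3) (f''.appLE ⊤ U'' e2) ∧
        ((h ≫ g).appLE T ⊤ e1).hom.FaithfullyFlat := by
  obtain ⟨T, hT, hxT, -⟩ := exists_isAffineOpen_mem_and_subset (x := f x) (U := ⊤) trivial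
  obtain ⟨U, hU, hxU, hUT⟩ := exists_isAffineOpen_mem_and_subset (x := x) (U := f ⁻¹ᵁ T) hxT
  have hUT' : U ≤ f ⁻¹ᵁ T := hUT
  haveI : CompactSpace (g ⁻¹ᵁ T).toScheme :=
    isCompact_iff_compactSpace.1 (g.isCompact_preimage (hU := hT.isCompact))
  obtain ⟨T'', p, hps, hpl, hT''⟩ :=
    Scheme.exists_hom_isAffine_of_isZariskiLocalAtSource @IsLocalIso (g ⁻¹ᵁ T).toScheme
  haveI : Flat p := IsLocalIso.le_of_isZariskiLocalAtSource @Flat _ _ p hpl
  let h : T'' ⟶ S' := p ≫ (g ⁻¹ᵁ T).ι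
  let X'' := pullback f' h
  let g'' : X'' ⟶ X' := pullback.fst f' h
  let f'' : X'' ⟶ T'' := pullback.snd f' h
  have hpb : IsPullback g'' f'' f' h := IsPullback.of_hasPullback f' h
  have hfl : Flat h := inferInstanceAs (Flat (p ≫ (g ⁻¹ᵁ T).ι))
  have hbig : IsPullback (g'' ≫ g') f'' f (h ≫ g) := hpb.paste_horiz hc
  have e1 : (⊤ : T''.Opens) ≤ (h ≫ g) ⁻¹ᵁ T := fun z _ => (p z).2
  have htop : IsAffineOpen (⊤ : T''.Opens) := isAffineOpen_top _
  obtain ⟨hU'', hpush⟩ := pullback_chart_top hbig hT htop e1 hU hUT'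
  refine ⟨U, T, hUT', T'', X'', h, f'', g'', _, hfl, hpb, hU, hT, hxU, hU'', htop, e1, inf_le_right, inf_le_left,
    hpush, ?_⟩
  haveI : Flat (h ≫ g) := inferInstance
  rw [RingHom.FaithfullyFlat.iff_flat_and_comap_surjective]
  refine ⟨(h ≫ g).flat_appLE hT htop e1, fun P => ?_⟩
  have ht : hT.fromSpec P ∈ T := by
    have h0 : hT.fromSpec P ∈ hT.fromSpec.opensRange := ⟨P, rfl⟩
    rwa [hT.opensRange_fromSpec] at h0
  obtain ⟨s', hs'⟩ := g.surjective (hT.fromSpec P)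
  obtain ⟨z, hz⟩ := p.surjective ⟨s', by show g s' ∈ T; rw [hs']; exact ht⟩
  have hhz : (h ≫ g) z = hT.fromSpec P := by
    show g ((p z).1) = _
    rw [hz]
    exact hs'
  refine ⟨htop.primeIdealOf ⟨z, trivial⟩, ?_⟩
  rw [IsAffineOpen.comap_primeIdealOf_appLE (f := h ≫ g) T hT ⊤ htop e1 (x := z) trivial]
  exact hT.fromSpec.isOpenEmbedding.injective ((hT.fromSpec_primeIdealOf _).trans hhz)
where
  pullback_chart_top {X S X' S' : Scheme.{u}} {q : X ⟶ S} {h : S' ⟶ S} {gX : X' ⟶ X} {q' : X' ⟶ S'}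
    (hX : IsPullback gX q' q h) {T : S.Opens} (hT : IsAffineOpen T) {T' : S'.Opens} (hT' : IsAffineOpen T')
    (eT : T' ≤ h ⁻¹ᵁ T) {U : X.Opens} (hU : IsAffineOpen U) (e : U ≤ q ⁻¹ᵁ T) :
    IsAffineOpen (gX ⁻¹ᵁ U ⊓ q' ⁻¹ᵁ T') ∧
      IsPushout (q.appLE T U e) (h.appLE T T' eT)
        (gX.appLE U (gX ⁻¹ᵁ U ⊓ q' ⁻¹ᵁ T') inf_le_left) (q'.appLE T' (gX ⁻¹ᵁ U ⊓ q' ⁻¹ᵁ T') inf_le_right) :=
    LCILocusLib.pullback_chart hX hT hT' eT hU e

theorem pcohMor_descent {X S X' S' : Scheme.{u}} (f : X ⟶ S) (f' : X' ⟶ S') (g' : X' ⟶ X) (g : S' ⟶ S)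
    [Flat g] [Surjective g] [QuasiCompact g] (hc : IsPullback g' f' f g)
    (hf' : MoreMor.IsPseudoCoherentMor f') : MoreMor.IsPseudoCoherentMor f := by
  refine pcohMor_of_exists f fun x => ?_
  obtain ⟨U, T, hUT, T'', X'', h, f'', g'', U'', hfl, hpb, hU, hT, hxU, hU'', htop, e1, e2, e3, hpush, hff⟩ :=
    exists_chart f f' g' g hc x
  refine ⟨U, T, hUT, hU, hT, hxU, ?_⟩
  have hf'' := pcohMor_baseChange f' f'' g'' h hpb hf'
  letI : Algebra Γ(S, T) Γ(T'', ⊤) := ((h ≫ g).appLE T ⊤ e1).hom.toAlgebra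
  letI : Algebra Γ(S, T) Γ(X, U) := (f.appLE T U hUT).hom.toAlgebra
  letI : Algebra Γ(T'', ⊤) Γ(X'', U'') := (f''.appLE ⊤ U'' e2).hom.toAlgebra
  letI : Algebra Γ(X, U) Γ(X'', U'') := ((g'' ≫ g').appLE U U'' e3).hom.toAlgebra
  letI : Algebra Γ(S, T) Γ(X'', U'') := (f.appLE T U hUT ≫ (g'' ≫ g').appLE U U'' e3).hom.toAlgebra
  haveI : IsScalarTower Γ(S, T) Γ(X, U) Γ(X'', U'') := IsScalarTower.of_algebraMap_eq fun _ => rfl
  haveI : IsScalarTower Γ(S, T) Γ(T'', ⊤) Γ(X'', U'') :=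
    IsScalarTower.of_algebraMap_eq' (congrArg CommRingCat.Hom.hom hpush.w)
  haveI : Algebra.IsPushout Γ(S, T) Γ(X, U) Γ(T'', ⊤) Γ(X'', U'') := CommRingCat.isPushout_iff_isPushout.mp hpush
  haveI : Algebra.IsPushout Γ(S, T) Γ(T'', ⊤) Γ(X, U) Γ(X'', U'') := .symm inferInstance
  haveI : Module.FaithfullyFlat Γ(S, T) Γ(T'', ⊤) := RingHom.faithfullyFlat_algebraMap_iff.1 hff
  exact pcohHom_descent (A' := Γ(T'', ⊤)) Γ(X'', U'') (hf'' U'' ⊤ hU'' htop e2)

theorem perfectMor_descent {X S X' S' : Scheme.{u}} (f : X ⟶ S) (f' : X' ⟶ S') (g' : X' ⟶ X) (g : S' ⟶ S)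
    [Flat g] [Surjective g] [QuasiCompact g] (hc : IsPullback g' f' f g)
    (hf' : MoreMor.IsPerfectMor f') : MoreMor.IsPerfectMor f := by
  refine perfMor_of_exists f fun x => ?_
  obtain ⟨U, T, hUT, T'', X'', h, f'', g'', U'', hfl, hpb, hU, hT, hxU, hU'', htop, e1, e2, e3, hpush, hff⟩ :=
    exists_chart f f' g' g hc x
  refine ⟨U, T, hUT, hU, hT, hxU, ?_⟩
  have hf'' := perfectMor_baseChange f' f'' g'' h hpb hf'
  letI : Algebra Γ(S, T) Γ(T'', ⊤) := ((h ≫ g).appLE T ⊤ e1).hom.toAlgebra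
  letI : Algebra Γ(S, T) Γ(X, U) := (f.appLE T U hUT).hom.toAlgebra
  letI : Algebra Γ(T'', ⊤) Γ(X'', U'') := (f''.appLE ⊤ U'' e2).hom.toAlgebra
  letI : Algebra Γ(X, U) Γ(X'', U'') := ((g'' ≫ g').appLE U U'' e3).hom.toAlgebra
  letI : Algebra Γ(S, T) Γ(X'', U'') := (f.appLE T U hUT ≫ (g'' ≫ g').appLE U U'' e3).hom.toAlgebra
  haveI : IsScalarTower Γ(S, T) Γ(X, U) Γ(X'', U'') := IsScalarTower.of_algebraMap_eq fun _ => rfl
  haveI : IsScalarTower Γ(S, T) Γ(T'', ⊤) Γ(X'', U'') :=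
    IsScalarTower.of_algebraMap_eq' (congrArg CommRingCat.Hom.hom hpush.w)
  haveI : Algebra.IsPushout Γ(S, T) Γ(X, U) Γ(T'', ⊤) Γ(X'', U'') := CommRingCat.isPushout_iff_isPushout.mp hpush
  haveI : Algebra.IsPushout Γ(S, T) Γ(T'', ⊤) Γ(X, U) Γ(X'', U'') := .symm inferInstance
  haveI : Module.FaithfullyFlat Γ(S, T) Γ(T'', ⊤) := RingHom.faithfullyFlat_algebraMap_iff.1 hff
  exact isPerfectHom_descent (A' := Γ(T'', ⊤)) Γ(X'', U'') (hf'' U'' ⊤ hU'' htop e2)

end PerfModLib
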