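import Groth.Agent.PerfModLib.Pcoh
import Groth.Agent.KoszAtLib.Ring
import Mathlib

/-!
# Cancelling a smooth morphism from a perfect one
-/

set_option autoImplicit false
set_option linter.style.haveILetI false
set_option backward.isDefEq.respectTransparency.types false

noncomputable section

universe u

open CategoryTheory TensorProduct AlgebraicGeometry
attribute [local instance] HasDerivedCategory.standard

namespace PerfModLib

attribute [local instance] Algebra.TensorProduct.rightAlgebra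

/-- The diagonal of a smooth algebra, pulled back to a target, has finite tor dimension. -/
theorem hasFiniteTorDim_cancel_smooth {A B C : Type u} [CommRing A] [CommRing B] [CommRing C] [Algebra A B]
    [Algebra B C] [Algebra A C] [IsScalarTower A B C] [Algebra.Smooth A B] (h : DRing.HasFiniteTorDim A C) :
    DRing.HasFiniteTorDim B C := by
  obtain ⟨d, hd⟩ := DiagLib.exists_FD_of_hasFiniteTorDim h
  haveI : Module.Flat A B := Algebra.Smooth.flat A B
  let W := B ⊗[A] C
  let σA : W →ₐ[A] C :=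
    Algebra.TensorProduct.lift (IsScalarTower.toAlgHom A B C) (AlgHom.id A C) fun _ _ => Commute.all _ _
  have hσt : ∀ (b : B) (c : C), σA (b ⊗ₜ[A] c) = algebraMap B C b * c := fun b c => rfl
  let σ : W →ₐ[C] C :=
    { σA.toRingHom with
      commutes' := fun c => by
        show σA ((1 : B) ⊗ₜ[A] c) = c
        rw [hσt, map_one, _root_.one_mul] }
  have hσ : Function.Surjective σ := fun c => ⟨(1 : B) ⊗ₜ c, by
    show σA ((1 : B) ⊗ₜ[A] c) = c
    rw [hσt, map_one, _root_.one_mul]⟩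
  haveI : Algebra.Smooth C W := Algebra.Smooth.of_equiv (Algebra.TensorProduct.commRight A C B)
  have hk : KRLib.LocKR (RingHom.ker σ.toRingHom) :=
    KoszAtLib.locKR_ker_of_smooth σ hσ (KoszAtLib.isLCI_of_smooth C C)
  letI : Algebra W C := σ.toRingHom.toAlgebra
  haveI : IsScalarTower B W C := IsScalarTower.of_algebraMap_eq fun b => by
    show algebraMap B C b = σA (b ⊗ₜ[A] (1 : C))
    rw [hσt, _root_.mul_one]
  have hperf : DRing.IsPerfectModule W C :=
    perfect_of_equiv (Ideal.quotientKerAlgEquivOfSurjective (f := Algebra.ofId W C) hσ).toLinearEquiv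
      (perfect_quotient_of_locKR _ hk)
  obtain ⟨e, he⟩ := DiagLib.exists_FD_of_hasFiniteTorDim (perfect_iff.1 hperf).2
  have hW : DiagLib.FD B d W := fd_baseChange d C hd
  exact CILib.hasFiniteTorDim_of_FD (fd_trans hW e C he)

/-- Cancelling a smooth map. -/
theorem isPerfectHom_cancel_smooth {A B C : Type u} [CommRing A] [CommRing B] [CommRing C] [Algebra A B]
    [Algebra B C] [Algebra A C] [IsScalarTower A B C] [Algebra.Smooth A B] (h : MoreMor.IsPerfectHom A C) :
    MoreMor.IsPerfectHom B C := by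
  haveI : Module.Flat A B := Algebra.Smooth.flat A B
  exact ⟨pcohHom_cancel isPerfectHom_of_flat.1 h.1, hasFiniteTorDim_cancel_smooth (A := A) h.2⟩

theorem perfectMor_cancel_smooth {X Y S : Scheme.{u}} (f : X ⟶ Y) (g : Y ⟶ S) [Smooth g]
    (h : MoreMor.IsPerfectMor (f ≫ g)) : MoreMor.IsPerfectMor f := by
  refine perfMor_of_exists _ fun x => ?_
  obtain ⟨V, hV, hxV, -⟩ := exists_isAffineOpen_mem_and_subset (x := g (f x)) (U := ⊤) trivial
  obtain ⟨W, hW, hxW, hWV⟩ := exists_isAffineOpen_mem_and_subset (x := f x) (U := g ⁻¹ᵁ V) hxV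
  obtain ⟨U, hU, hxU, hUW⟩ := exists_isAffineOpen_mem_and_subset (x := x) (U := f ⁻¹ᵁ W) hxW
  have hWV' : W ≤ g ⁻¹ᵁ V := hWV
  have hUW' : U ≤ f ⁻¹ᵁ W := hUW
  refine ⟨U, W, hUW', hU, hW, hxU, ?_⟩
  have hUV : U ≤ (f ≫ g) ⁻¹ᵁ V := (hUW'.trans (f.preimage_mono hWV')).trans_eq (Scheme.Hom.comp_preimage f g V).symm
  letI : Algebra Γ(S, V) Γ(Y, W) := (g.appLE V W hWV').hom.toAlgebra
  letI : Algebra Γ(Y, W) Γ(X, U) := (f.appLE W U hUW').hom.toAlgebra
  letI : Algebra Γ(S, V) Γ(X, U) := ((f ≫ g).appLE V U hUV).hom.toAlgebra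
  haveI : IsScalarTower Γ(S, V) Γ(Y, W) Γ(X, U) := IsScalarTower.of_algebraMap_eq fun a =>
    (congrArg (fun φ : Γ(S, V) ⟶ Γ(X, U) => φ.hom a) (Scheme.Hom.appLE_comp_appLE f g V W U hWV' hUW') : _).symm
  haveI : Algebra.Smooth Γ(S, V) Γ(Y, W) :=
    HasRingHomProperty.appLE (P := @Smooth) g inferInstance ⟨V, hV⟩ ⟨W, hW⟩ hWV'
  exact isPerfectHom_cancel_smooth (A := Γ(S, V)) (h U V hU hV hUV)

end PerfModLib
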