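import Groth.Agent.PerfModLib.Trans
import Groth.Agent.PerfModLib.Hom
import Groth.Agent.KRLib.ImmFlat
import Mathlib

/-!
# Pseudo-coherent ring maps: independence of the presentation, composition, base change
-/

set_option autoImplicit false
set_option linter.style.haveILetI false

noncomputable section

universe u

open CategoryTheory TensorProduct MvPolynomial
attribute [local instance] HasDerivedCategory.standard

namespace PerfModLib

variable {A : Type u} [CommRing A]

/-- A flat finitely presented algebra is pseudo-coherent over any flat finitely presented algebra surjecting to it. -/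
theorem pcoh'_flat_pair {R S : Type u} [CommRing R] [CommRing S] [Algebra A R] [Algebra A S] [Algebra R S]
    [IsScalarTower A R S] [Module.Flat A R] [Algebra.FinitePresentation A R] [Module.Flat A S]
    [Algebra.FinitePresentation A S] (hs : Function.Surjective (algebraMap R S)) :
    DRing.IsPseudoCoherentModule' R S := by
  haveI : Module.FinitePresentation R S := Module.finitePresentation_of_surjective (Algebra.linearMap R S) hs
    (Algebra.FinitePresentation.ker_fG_of_surjective (IsScalarTower.toAlgHom A R S) hs)
  exact pcoh'_of_flat (A := A) S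

/-- Any flat finitely presented algebra surjecting to the target gives a pseudo-coherent ring map. -/
theorem pcohHom_of_surjective {R C : Type u} [CommRing R] [CommRing C] [Algebra A R] [Algebra A C] [Algebra R C]
    [IsScalarTower A R C] [Module.Flat A R] [Algebra.FinitePresentation A R]
    (hs : Function.Surjective (algebraMap R C)) (h : DRing.IsPseudoCoherentModule' R C) :
    MoreMor.IsPseudoCoherentHom A C := by
  obtain ⟨m, ρ, hρ, -⟩ := Algebra.FinitePresentation.out (R := A) (A := R)
  let P := MvPolynomial (Fin m) A
  let φ : P →ₐ[A] C := (IsScalarTower.toAlgHom A R C).comp ρ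
  refine ⟨m, φ, hs.comp hρ, ?_⟩
  letI : Algebra P R := ρ.toRingHom.toAlgebra
  letI : Algebra P C := φ.toRingHom.toAlgebra
  haveI : IsScalarTower A P R := IsScalarTower.of_algebraMap_eq fun a => (ρ.commutes a).symm
  haveI : IsScalarTower P R C := IsScalarTower.of_algebraMap_eq fun _ => rfl
  exact (pcoh'_iff_of_surjective (A := P) (B := R) hρ (pcoh'_flat_pair (A := A) hρ) C).2 h

/-- Independence of the presentation. -/
theorem pcoh'_of_pcohHom {R C : Type u} [CommRing R] [CommRing C] [Algebra A R] [Algebra A C] [Algebra R C]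
    [IsScalarTower A R C] [Module.Flat A R] [Algebra.FinitePresentation A R]
    (hs : Function.Surjective (algebraMap R C)) (h : MoreMor.IsPseudoCoherentHom A C) :
    DRing.IsPseudoCoherentModule' R C := by
  obtain ⟨n, ψ, hψ, hp⟩ := h
  obtain ⟨m, ρ, hρ, -⟩ := Algebra.FinitePresentation.out (R := A) (A := R)
  let P := MvPolynomial (Fin n) A
  let W := MvPolynomial (Fin (n + m)) A
  let σ := IsScalarTower.toAlgHom A R C
  choose a ha using fun i : Fin n => hs (ψ (X i))
  choose b hb using fun j : Fin m => hψ (σ (ρ (X j)))
  let toR : W →ₐ[A] R := aeval (Fin.append a fun j => ρ (X j))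
  let toP : W →ₐ[A] P := aeval (Fin.append (fun i => X i) b)
  have hcomm : σ.comp toR = ψ.comp toP := by
    refine MvPolynomial.algHom_ext fun i => ?_
    show σ (toR (X i)) = ψ (toP (X i))
    rw [aeval_X, aeval_X]
    refine Fin.addCases (fun i => ?_) (fun j => ?_) i
    · rw [Fin.append_left, Fin.append_left]; exact ha i
    · rw [Fin.append_right, Fin.append_right]; exact (hb j).symm
  have htR : Function.Surjective toR := fun r => by
    obtain ⟨q, rfl⟩ := hρ r
    refine ⟨rename (Fin.natAdd n) q, ?_⟩
    exact (congrArg (fun φ : MvPolynomial (Fin m) A →ₐ[A] R => φ q)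
      (MvPolynomial.algHom_ext (f := toR.comp (rename (Fin.natAdd n))) (g := ρ) fun j => by
        show toR (rename (Fin.natAdd n) (X j)) = _
        rw [rename_X, aeval_X, Fin.append_right]))
  have htP : Function.Surjective toP := fun p => by
    refine ⟨rename (Fin.castAdd m) p, ?_⟩
    exact (congrArg (fun φ : P →ₐ[A] P => φ p)
      (MvPolynomial.algHom_ext (f := toP.comp (rename (Fin.castAdd m))) (g := AlgHom.id A P) fun j => by
        show toP (rename (Fin.castAdd m) (X j)) = X j
        rw [rename_X, aeval_X, Fin.append_left]))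
  letI : Algebra W R := toR.toRingHom.toAlgebra
  letI : Algebra W P := toP.toRingHom.toAlgebra
  letI : Algebra P C := ψ.toRingHom.toAlgebra
  letI : Algebra W C := (σ.comp toR).toRingHom.toAlgebra
  haveI : IsScalarTower A W R := IsScalarTower.of_algebraMap_eq fun x => (toR.commutes x).symm
  haveI : IsScalarTower A W P := IsScalarTower.of_algebraMap_eq fun x => (toP.commutes x).symm
  haveI : IsScalarTower W R C := IsScalarTower.of_algebraMap_eq fun _ => rfl
  haveI : IsScalarTower W P C := IsScalarTower.of_algebraMap_eq fun w => congrArg (fun φ : W →ₐ[A] C => φ w) hcomm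
  have h1 : DRing.IsPseudoCoherentModule' W C :=
    (pcoh'_iff_of_surjective (A := W) (B := P) htP (pcoh'_flat_pair (A := A) htP) C).2 hp
  exact (pcoh'_iff_of_surjective (A := W) (B := R) htR (pcoh'_flat_pair (A := A) htR) C).1 h1

attribute [local instance] MvPolynomial.algebraMvPolynomial

/-- Pseudo-coherent ring maps compose. -/
theorem pcohHom_comp {B C : Type u} [CommRing B] [CommRing C] [Algebra A B] [Algebra B C] [Algebra A C]
    [IsScalarTower A B C] (h₁ : MoreMor.IsPseudoCoherentHom A B) (h₂ : MoreMor.IsPseudoCoherentHom B C) :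
    MoreMor.IsPseudoCoherentHom A C := by
  obtain ⟨n, φ, hφ, hp⟩ := h₁
  obtain ⟨m, ψ, hψ, hq⟩ := h₂
  let P := MvPolynomial (Fin n) A
  letI : Algebra P B := φ.toRingHom.toAlgebra
  haveI : IsScalarTower A P B := IsScalarTower.of_algebraMap_eq fun a => (φ.commutes a).symm
  let R := MvPolynomial (Fin m) P
  let S := MvPolynomial (Fin m) B
  letI : Algebra S C := ψ.toRingHom.toAlgebra
  letI : Algebra R C := ((algebraMap S C).comp (algebraMap R S)).toAlgebra
  haveI : IsScalarTower R S C := IsScalarTower.of_algebraMap_eq fun _ => rfl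
  haveI : IsScalarTower A R C := IsScalarTower.of_algebraMap_eq fun a => by
    show _ = ψ (MvPolynomial.map φ.toRingHom (MvPolynomial.C (MvPolynomial.C a)))
    rw [MvPolynomial.map_C, ← MvPolynomial.algebraMap_eq, ← MvPolynomial.algebraMap_eq, AlgHom.commutes,
      IsScalarTower.algebraMap_apply A B C]
    exact congrArg _ (φ.commutes a).symm
  have hsS : Function.Surjective (algebraMap R S) := MvPolynomial.map_surjective φ.toRingHom hφ
  have hRS : DRing.IsPseudoCoherentModule' R S :=
    pcoh'_isBaseChange (IsScalarTower.toAlgHom P B S).toLinearMap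
      (inferInstance : Algebra.IsPushout P R B S).out hp
  haveI : Algebra.FinitePresentation A R := Algebra.FinitePresentation.trans A P R
  haveI : Module.Flat A R := Module.Flat.trans A P R
  exact pcohHom_of_surjective (A := A) (R := R) (hψ.comp hsS)
    ((pcoh'_iff_of_surjective hsS hRS C).2 hq)

theorem isPerfectHom_comp {B C : Type u} [CommRing B] [CommRing C] [Algebra A B] [Algebra B C] [Algebra A C]
    [IsScalarTower A B C] (h₁ : MoreMor.IsPerfectHom A B) (h₂ : MoreMor.IsPerfectHom B C) :
    MoreMor.IsPerfectHom A C := by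
  obtain ⟨d, hd⟩ := DiagLib.exists_FD_of_hasFiniteTorDim h₁.2
  obtain ⟨e, he⟩ := DiagLib.exists_FD_of_hasFiniteTorDim h₂.2
  exact ⟨pcohHom_comp h₁.1 h₂.1, CILib.hasFiniteTorDim_of_FD (fd_trans hd e C he)⟩

/-- Pseudo-coherent ring maps are stable under flat base change. -/
theorem pcohHom_baseChange {A' B B' : Type u} [CommRing A'] [CommRing B] [CommRing B'] [Algebra A B] [Algebra A A']
    [Algebra A' B'] [Algebra B B'] [Algebra A B'] [IsScalarTower A A' B'] [IsScalarTower A B B']
    [Algebra.IsPushout A A' B B'] [Module.Flat A A'] (h : MoreMor.IsPseudoCoherentHom A B) :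
    MoreMor.IsPseudoCoherentHom A' B' := by
  obtain ⟨n, φ, hφ, hp⟩ := h
  let P := MvPolynomial (Fin n) A
  let P' := MvPolynomial (Fin n) A'
  let φ' : P' →ₐ[A'] B' := aeval fun i => algebraMap B B' (φ (X i))
  letI : Algebra P B := φ.toRingHom.toAlgebra
  haveI : IsScalarTower A P B := IsScalarTower.of_algebraMap_eq fun a => (φ.commutes a).symm
  letI : Algebra P' B' := φ'.toRingHom.toAlgebra
  haveI : IsScalarTower A' P' B' := IsScalarTower.of_algebraMap_eq fun a => (φ'.commutes a).symm
  letI : Algebra P B' := ((algebraMap B B').comp φ.toRingHom).toAlgebra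
  haveI : IsScalarTower P B B' := IsScalarTower.of_algebraMap_eq fun _ => rfl
  haveI : IsScalarTower P P' B' := IsScalarTower.of_algebraMap_eq' (MvPolynomial.ringHom_ext (fun a => by
    show algebraMap B B' (φ (C a)) = φ' (MvPolynomial.map (algebraMap A A') (C a))
    rw [map_C, ← algebraMap_eq, ← algebraMap_eq, AlgHom.commutes, AlgHom.commutes,
      ← IsScalarTower.algebraMap_apply A B B', ← IsScalarTower.algebraMap_apply A A' B']) fun i => by
    show algebraMap B B' (φ (X i)) = φ' (MvPolynomial.map (algebraMap A A') (X i))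
    rw [map_X, aeval_X])
  haveI : IsScalarTower A P B' := IsScalarTower.of_algebraMap_eq fun a => by
    rw [IsScalarTower.algebraMap_apply A B B', IsScalarTower.algebraMap_apply A P B]
    rfl
  haveI : IsScalarTower A P' B' := IsScalarTower.of_algebraMap_eq fun a => by
    rw [IsScalarTower.algebraMap_apply A A' B', IsScalarTower.algebraMap_apply A' P' B',
      ← IsScalarTower.algebraMap_apply A A' P']
  haveI : Algebra.IsPushout A B A' B' := .symm inferInstance
  haveI h2 : Algebra.IsPushout P B P' B' :=
    (Algebra.IsPushout.comp_iff (R := A) (S := P) (R' := A') (S' := P') (T := B) (T' := B')).1 inferInstance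
  haveI : Module.Flat P P' := Module.Flat.isBaseChange A P A' P' (inferInstance : Algebra.IsPushout A P A' P').out
  exact ⟨n, φ', (KRLib.isPushout_surjective_ker (A := P) (B := B) (C := P') (P := B') hφ).1,
    pcoh'_isBaseChange (IsScalarTower.toAlgHom P B B').toLinearMap (Algebra.IsPushout.symm h2).out hp⟩

theorem isPerfectHom_baseChange {A' B B' : Type u} [CommRing A'] [CommRing B] [CommRing B'] [Algebra A B]
    [Algebra A A'] [Algebra A' B'] [Algebra B B'] [Algebra A B'] [IsScalarTower A A' B'] [IsScalarTower A B B']
    [Algebra.IsPushout A A' B B'] [Module.Flat A A'] (h : MoreMor.IsPerfectHom A B) :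
    MoreMor.IsPerfectHom A' B' := by
  obtain ⟨d, hd⟩ := DiagLib.exists_FD_of_hasFiniteTorDim h.2
  exact ⟨pcohHom_baseChange h.1, CILib.hasFiniteTorDim_of_FD
    (DiagLib.FD.of_equiv d (IsBaseChange.equiv (Algebra.IsPushout.out (R := A) (S := A') (R' := B) (S' := B')))
      (fd_baseChange (B := A') d B hd))⟩

end PerfModLib
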