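import Groth.Agent.PerfModLib.Basic
import Groth.Agent.DRingLib.AmplitudeBC
import Groth.Agent.DRingLib.FlatBC
import Groth.Agent.KRLib.Ideal
import Groth.Agent.KoszDetLib.Cone
import Mathlib

/-!
# Quotients by Koszul regular ideals are perfect
-/

set_option autoImplicit false
set_option linter.style.haveILetI false

noncomputable section

universe u

open CategoryTheory KoszDetLib
attribute [local instance] HasDerivedCategory.standard

namespace PerfModLib

variable {Q : Type u} [CommRing Q]

/-- The cycles in degree `p`. -/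
def Zc {n : ℕ} (f : Fin n → Q) (p : ℕ) : Submodule Q (Kz Q n) :=
  LinearMap.range (proj p) ⊓ LinearMap.ker (D f)

theorem perfect_range_proj {n : ℕ} (p : ℕ) :
    DRing.IsPerfectModule Q (LinearMap.range (proj p : Kz Q n →ₗ[Q] Kz Q n)) := by
  haveI : Module.Projective Q (LinearMap.range (proj p : Kz Q n →ₗ[Q] Kz Q n)) :=
    Module.Projective.of_split (LinearMap.range (proj p)).subtype (proj p).rangeRestrict
      (LinearMap.ext fun x => Subtype.ext (by
        obtain ⟨_, y, rfl⟩ := x
        exact proj_proj p y))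
  exact perfect_of_finite_free

theorem perfect_zc {n : ℕ} (f : Fin n → Q) (hf : IsExactK f) :
    ∀ (k p : ℕ), 1 ≤ p → n ≤ p + k → DRing.IsPerfectModule Q (Zc f p)
  | 0, p, hp, hk => by
    have hz : ∀ z ∈ Zc f p, z = 0 := fun z ⟨⟨y, hy⟩, hz⟩ => by
      have he : eps z = 0 := by
        rw [← hy]
        show (if deg (bot n) = p then y (bot n) else 0) = 0
        rw [deg_bot, if_neg (by omega)]
      obtain ⟨x, rfl⟩ := hf z hz (he ▸ Submodule.zero_mem _)
      funext s
      rw [← hy]
      show (if deg s = p then y s else 0) = 0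
      split_ifs with h
      · have hsn : deg s = n := by have := deg_le s; omega
        have := congrFun hy s
        rw [proj_apply, if_pos h, eq_top_of_deg s hsn, D_top] at this
        rw [eq_top_of_deg s hsn]
        exact this
      · rfl
    haveI : Subsingleton (Zc f p) := ⟨fun a b => Subtype.ext ((hz a a.2).trans (hz b b.2).symm)⟩
    haveI := Module.Free.of_subsingleton Q (Zc f p)
    exact perfect_of_finite_free
  | k + 1, p, hp, hk => by
    let d : LinearMap.range (proj (p + 1) : Kz Q n →ₗ[Q] Kz Q n) →ₗ[Q] Zc f p :=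
      (D f ∘ₗ (LinearMap.range (proj (p + 1) : Kz Q n →ₗ[Q] Kz Q n)).subtype).codRestrict (Zc f p) fun x => by
        obtain ⟨_, y, rfl⟩ := x
        exact ⟨⟨D f y, (D_proj_succ f p y).symm⟩, D_D f _⟩
    have hd : Function.Surjective d := fun z => by
      obtain ⟨y, hy⟩ := z.2.1
      have he : eps (z : Kz Q n) = 0 := by
        rw [← hy]
        show (if deg (bot n) = p then y (bot n) else 0) = 0
        rw [deg_bot, if_neg (by omega)]
      obtain ⟨x, hx⟩ := hf z z.2.2 (he ▸ Submodule.zero_mem _)
      refine ⟨⟨proj (p + 1) x, x, rfl⟩, Subtype.ext ?_⟩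
      show D f (proj (p + 1) x) = z
      rw [D_proj_succ, hx, ← hy, proj_proj]
    let e : Zc f (p + 1) ≃ₗ[Q] LinearMap.ker d :=
      { toFun := fun z => ⟨⟨z.1, z.2.1⟩, Subtype.ext z.2.2⟩
        invFun := fun z => ⟨z.1.1, z.1.2, congrArg Subtype.val (LinearMap.mem_ker.1 z.2)⟩
        map_add' := fun _ _ => rfl
        map_smul' := fun _ _ => rfl
        left_inv := fun _ => rfl
        right_inv := fun _ => rfl }
    exact perfect_of_ker d hd (perfect_range_proj _)
      (perfect_of_equiv e (perfect_zc f hf k (p + 1) (by omega) (by omega)))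

theorem perfect_quotient_of_exactK {n : ℕ} (f : Fin n → Q) (hf : IsExactK f) :
    DRing.IsPerfectModule Q (Q ⧸ Ideal.span (Set.range f)) := by
  let I := Ideal.span (Set.range f)
  let ψ : LinearMap.range (proj 1 : Kz Q n →ₗ[Q] Kz Q n) →ₗ[Q] I :=
    (eps ∘ₗ D f ∘ₗ (LinearMap.range (proj 1 : Kz Q n →ₗ[Q] Kz Q n)).subtype).codRestrict I fun x => eps_D_mem f _
  have hψ : Function.Surjective ψ := fun i => by
    obtain ⟨x, hx⟩ := mem_range_proj_zero f i i.2
    refine ⟨⟨proj 1 x, x, rfl⟩, Subtype.ext ?_⟩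
    show eps (D f (proj 1 x)) = i
    rw [D_proj_succ, hx, proj_zero_eq, map_smul, map_smul, eps_one, smul_eq_mul, mul_one, smul_eq_mul, mul_one]
  let e : Zc f 1 ≃ₗ[Q] LinearMap.ker ψ :=
    { toFun := fun z => ⟨⟨z.1, z.2.1⟩, Subtype.ext (by show eps (D f z.1) = 0; rw [LinearMap.mem_ker.1 z.2.2, map_zero])⟩
      invFun := fun z => ⟨z.1.1, z.1.2, by
        obtain ⟨y, hy⟩ := z.1.2
        have h0 : eps (D f z.1.1) = 0 := congrArg Subtype.val (LinearMap.mem_ker.1 z.2)
        rw [← hy] at h0 ⊢
        show D f (proj 1 y) = 0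
        rw [D_proj_succ] at h0 ⊢
        rw [proj_zero_eq] at h0 ⊢
        rw [map_smul, eps_one, smul_eq_mul, mul_one] at h0
        rw [h0, zero_smul]⟩
      map_add' := fun _ _ => rfl
      map_smul' := fun _ _ => rfl
      left_inv := fun _ => rfl
      right_inv := fun _ => rfl }
  have hI : DRing.IsPerfectModule Q I :=
    perfect_of_ker ψ hψ (perfect_range_proj 1) (perfect_of_equiv e (perfect_zc f hf n 1 le_rfl (by omega)))
  exact perfect_of_ker (Submodule.mkQ I) (Submodule.mkQ_surjective I) perfect_of_finite_free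
    (perfect_of_equiv (LinearEquiv.ofEq _ _ (Submodule.ker_mkQ I).symm) hI)

open scoped TensorProduct

theorem perfect_of_away {r : ℕ} (g : Fin r → Q) (hg : Ideal.span (Set.range g) = ⊤) (M : Type u) [AddCommGroup M]
    [Module Q M] (h : ∀ i, DRing.IsPerfectModule (Localization.Away (g i)) (Localization.Away (g i) ⊗[Q] M)) :
    DRing.IsPerfectModule Q M :=
  Groth.Agent.DRingLib.isPerfect_of_iso
    ((DerivedCategory.singleFunctorIsoCompQ (ModuleCat.{u} Q) 0).app (ModuleCat.of Q M)).symm
    (Groth.Agent.DRingLib.isPerfect_of_family (Groth.Agent.DRingLib.detectsZero_away g hg) _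
      fun i => Groth.Agent.DRingLib.isPerfect_of_iso (Groth.Agent.DRingLib.extCxSingleIso M).symm (h i))

/-- The quotient by a locally Koszul regular ideal is perfect. -/
theorem perfect_quotient_of_locKR (I : Ideal Q) (hI : KRLib.LocKR I) : DRing.IsPerfectModule Q (Q ⧸ I) := by
  let S : Set Q := {g | g ∈ I ∨ KRLib.KRGen (I.map (algebraMap Q (Localization.Away g)))}
  have hS : Ideal.span S = ⊤ := by
    by_contra hne
    obtain ⟨m, hm, hle⟩ := Ideal.exists_le_maximal _ hne
    obtain ⟨g, hg, hk⟩ := hI m hm.isPrime fun a ha => hle (Ideal.subset_span (Or.inl ha))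
    exact hg (hle (Ideal.subset_span (Or.inr hk)))
  obtain ⟨T, hTS, hT⟩ := (Ideal.span_eq_top_iff_finite S).1 hS
  let g : Fin T.card → Q := fun i => T.equivFin.symm i
  have hg : Ideal.span (Set.range g) = ⊤ := by
    rw [← hT]
    refine congrArg Ideal.span (Set.ext fun x => ?_)
    exact ⟨fun ⟨i, hi⟩ => hi ▸ (T.equivFin.symm i).2, fun hx => ⟨T.equivFin ⟨x, hx⟩, by simp [g]⟩⟩
  refine perfect_of_away g hg _ fun i => ?_
  refine perfect_of_equiv (Algebra.TensorProduct.quotIdealMapEquivTensorQuot (Localization.Away (g i)) I).toLinearEquiv ?_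
  rcases hTS (T.equivFin.symm i).2 with h | h
  · have htop : I.map (algebraMap Q (Localization.Away (g i))) = ⊤ :=
      Ideal.eq_top_of_isUnit_mem _ (Ideal.mem_map_of_mem _ h) (IsLocalization.Away.algebraMap_isUnit (g i))
    haveI : Subsingleton (Localization.Away (g i) ⧸ I.map (algebraMap Q (Localization.Away (g i)))) :=
      Ideal.Quotient.subsingleton_iff.2 htop
    haveI := Module.Free.of_subsingleton (Localization.Away (g i))
      (Localization.Away (g i) ⧸ I.map (algebraMap Q (Localization.Away (g i))))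
    exact perfect_of_finite_free
  · obtain ⟨n, f, hf, hspan⟩ := h
    exact perfect_of_equiv (Submodule.quotEquivOfEq _ _ hspan) (perfect_quotient_of_exactK f hf)

end PerfModLib
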