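import Groth.Agent.PerfModLib.Indep
import Mathlib

/-!
# Perfect ring maps form a local property
-/

set_option autoImplicit false
set_option linter.style.haveILetI false

noncomputable section

universe u

open CategoryTheory TensorProduct MvPolynomial
attribute [local instance] HasDerivedCategory.standard

namespace PerfModLib

variable {A B : Type u} [CommRing A] [CommRing B] [Algebra A B]

theorem isPerfectHom_of_algEquiv {B' : Type u} [CommRing B'] [Algebra A B'] (e : B ≃ₐ[A] B')
    (h : MoreMor.IsPerfectHom A B) : MoreMor.IsPerfectHom A B' := by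
  letI : Algebra B B' := e.toAlgHom.toRingHom.toAlgebra
  haveI : IsScalarTower A B B' := IsScalarTower.of_algebraMap_eq fun a => (e.commutes a).symm
  haveI : Module.Flat B B' := RingHom.Flat.of_bijective e.bijective
  haveI : Algebra.FinitePresentation B B' := Algebra.FinitePresentation.equiv
    (AlgEquiv.ofBijective (Algebra.ofId B B') e.bijective)
  exact isPerfectHom_comp h isPerfectHom_of_flat

theorem isPerfectHom_away (r : A) [IsLocalization.Away r B] : MoreMor.IsPerfectHom A B := by
  haveI : Module.Flat A B := IsLocalization.flat B (Submonoid.powers r)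
  haveI : Algebra.FinitePresentation A B := IsLocalization.Away.finitePresentation r
  exact isPerfectHom_of_flat

/-- Perfectness is local on the target algebra. -/
theorem isPerfectHom_of_span_eq_top (s : Finset B) (hs : Ideal.span (s : Set B) = ⊤)
    (h : ∀ g ∈ s, MoreMor.IsPerfectHom A (Localization.Away g)) : MoreMor.IsPerfectHom A B := by
  haveI hfp : Algebra.FinitePresentation A B :=
    RingHom.finitePresentation_algebraMap.1 <|
      RingHom.finitePresentation_ofLocalizationSpanTarget (algebraMap A B) s hs fun g => by
        rw [← IsScalarTower.algebraMap_eq]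
        exact RingHom.finitePresentation_algebraMap.2 (finitePresentation_of_isPseudoCoherentHom (h g g.2).1)
  obtain ⟨n, φ, hφ⟩ := Algebra.FiniteType.iff_quotient_mvPolynomial''.1 (inferInstance : Algebra.FiniteType A B)
  let P := MvPolynomial (Fin n) A
  refine isPerfectHom_of_perfect φ hφ ?_
  letI : Algebra P B := φ.toRingHom.toAlgebra
  haveI : IsScalarTower A P B := IsScalarTower.of_algebraMap_eq fun a => (φ.commutes a).symm
  let S : Set P := {q | φ q = 0 ∨ φ q ∈ s}
  have hS : Ideal.span S = ⊤ := by
    have hmap : (Ideal.span S).map φ.toRingHom = ⊤ := by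
      rw [eq_top_iff, ← hs, Ideal.span_le]
      intro g hg
      obtain ⟨q, rfl⟩ := hφ g
      exact Ideal.mem_map_of_mem φ.toRingHom (Ideal.subset_span (Or.inr hg))
    rw [← Ideal.comap_top (f := φ.toRingHom), ← hmap, Ideal.comap_map_of_surjective φ.toRingHom hφ, eq_comm,
      sup_eq_left, ← RingHom.ker_eq_comap_bot]
    exact fun q hq => Ideal.subset_span (Or.inl hq)
  obtain ⟨T, hTS, hT⟩ := (Ideal.span_eq_top_iff_finite S).1 hS
  let g : Fin T.card → P := fun i => T.equivFin.symm i
  have hg : Ideal.span (Set.range g) = ⊤ := by
    rw [← hT]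
    refine congrArg Ideal.span (Set.ext fun x => ?_)
    exact ⟨fun ⟨i, hi⟩ => hi ▸ (T.equivFin.symm i).2, fun hx => ⟨T.equivFin ⟨x, hx⟩, by simp [g]⟩⟩
  refine perfect_of_away g hg B fun i => ?_
  let q := g i
  let L := Localization.Away q
  let M := Localization.Away (φ q)
  haveI hM : IsLocalization (Algebra.algebraMapSubmonoid B (Submonoid.powers q)) M := by
    rw [Algebra.algebraMapSubmonoid, Submonoid.map_powers]
    exact inferInstanceAs (IsLocalization.Away (φ q) M)
  let π : L →+* M := IsLocalization.Away.map L M φ.toRingHom q
  letI : Algebra L M := π.toAlgebra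
  haveI : IsScalarTower P L M := IsScalarTower.of_algebraMap_eq fun x => by
    show algebraMap B M (φ x) = π (algebraMap P L x)
    exact (IsLocalization.map_eq _ x).symm
  haveI : IsScalarTower A L M := IsScalarTower.of_algebraMap_eq fun x => by
    rw [IsScalarTower.algebraMap_apply A P L, ← IsScalarTower.algebraMap_apply P L M,
      ← IsScalarTower.algebraMap_apply A P M]
  have hpo : Algebra.IsPushout P L B M :=
    Algebra.IsPushout.symm (Algebra.isPushout_of_isLocalization (Submonoid.powers q) L B M)
  refine perfect_of_equiv hpo.out.equiv.symm ?_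
  rcases hTS (T.equivFin.symm i).2 with hi | hi
  · haveI : Subsingleton M := IsLocalization.subsingleton (M := Submonoid.powers (φ q))
      (show (0 : B) ∈ Submonoid.powers (φ q) from ⟨1, (pow_one _).trans hi⟩)
    haveI := Module.Free.of_subsingleton L M
    exact perfect_of_finite_free
  · have hM' := h _ hi
    haveI : Algebra.FinitePresentation P L := IsLocalization.Away.finitePresentation q
    haveI : Algebra.FinitePresentation A L := Algebra.FinitePresentation.trans A P L
    haveI : Module.Flat A L := Module.Flat.trans A P L
    haveI : TensorProduct.CompatibleSMul P L L M :=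
      IsLocalization.tensorProduct_compatibleSMul (Submonoid.powers q) L L M
    obtain ⟨d, hd⟩ := DiagLib.exists_FD_of_hasFiniteTorDim hM'.2
    refine perfect_iff.2 ⟨pcoh'_iff.1 (pcoh'_of_pcohHom (A := A) (KRLib.awayMap_surjective φ.toRingHom q L M hφ) hM'.1), ?_⟩
    have h1 := fd_mvPolynomial A n d M hd
    have h2 := fd_baseChange (A := P) (B := L) _ M h1
    exact CILib.hasFiniteTorDim_of_FD (DiagLib.FD.of_equiv _
      ((Algebra.TensorProduct.equivOfCompatibleSMul P L L L M).symm.trans
        (Algebra.TensorProduct.lid L M)).toLinearEquiv h2)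

end PerfModLib
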