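import Groth.Agent.PerfModLib.Mor
import Mathlib

/-!
# Pseudo-coherent morphisms
-/

set_option autoImplicit false
set_option linter.style.haveILetI false
set_option backward.isDefEq.respectTransparency.types false

noncomputable section

universe u

open CategoryTheory CategoryTheory.Limits AlgebraicGeometry
attribute [local instance] HasDerivedCategory.standard

namespace PerfModLib

section Ring

variable {A B : Type u} [CommRing A] [CommRing B] [Algebra A B]

theorem pcohHom_away (r : A) [IsLocalization.Away r B] : MoreMor.IsPseudoCoherentHom A B :=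
  (isPerfectHom_away r).1

/-- Pseudo-coherence is local on the target algebra. -/
theorem pcohHom_of_span_eq_top (s : Finset B) (hs : Ideal.span (s : Set B) = ⊤)
    (h : ∀ g ∈ s, MoreMor.IsPseudoCoherentHom A (Localization.Away g)) : MoreMor.IsPseudoCoherentHom A B := by
  haveI hfp : Algebra.FinitePresentation A B :=
    RingHom.finitePresentation_algebraMap.1 <|
      RingHom.finitePresentation_ofLocalizationSpanTarget (algebraMap A B) s hs fun g => by
        rw [← IsScalarTower.algebraMap_eq]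
        exact RingHom.finitePresentation_algebraMap.2 (finitePresentation_of_isPseudoCoherentHom (h g g.2))
  obtain ⟨n, φ, hφ⟩ := Algebra.FiniteType.iff_quotient_mvPolynomial''.1 (inferInstance : Algebra.FiniteType A B)
  let P := MvPolynomial (Fin n) A
  refine ⟨n, φ, hφ, ?_⟩
  letI : Algebra P B := φ.toRingHom.toAlgebra
  haveI : IsScalarTower A P B := IsScalarTower.of_algebraMap_eq fun a => (φ.commutes a).symm
  let S : Set P := {q | φ q = 0 ∨ φ q ∈ s}
  have hS : Ideal.span S = ⊤ := by
    have hmap : (Ideal.span S).map φ.toRingHom = ⊤ := by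
      rw [eq_top_iff, ← hs, Ideal.span_le]
      intro g hg
      obtain ⟨q, rfl⟩ := hφ g
      exact Ideal.mem_map_of_mem φ.toRingHom (Ideal.subset_span (Or.inr hg))
    rw [← Ideal.comap_top (f := φ.toRingHom), ← hmap, Ideal.comap_map_of_surjective φ.toRingHom hφ, eq_comm,
      sup_eq_left, ← RingHom.ker_eq_comap_bot]
    exact fun q hq => Ideal.subset_span (Or.inl hq)
  obtain ⟨T, hTS, hT⟩ := (Ideal.span_eq_top_iff_finite S).1 hS
  let g : Fin T.card → P := fun i => T.equivFin.symm i
  have hg : Ideal.span (Set.range g) = ⊤ := by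
    rw [← hT]
    refine congrArg Ideal.span (Set.ext fun x => ?_)
    exact ⟨fun ⟨i, hi⟩ => hi ▸ (T.equivFin.symm i).2, fun hx => ⟨T.equivFin ⟨x, hx⟩, by simp [g]⟩⟩
  refine pcoh'_iff.2 fun m => ?_
  refine Groth.Agent.DRingLib.isPseudoCoherent_of_iso
    ((DerivedCategory.singleFunctorIsoCompQ (ModuleCat.{u} P) 0).app (ModuleCat.of P B)).symm
    (Groth.Agent.DRingLib.isPseudoCoherent_of_family (Groth.Agent.DRingLib.detectsZero_away g hg) _ m
      fun i => Groth.Agent.DRingLib.isPseudoCoherent_of_iso (Groth.Agent.DRingLib.extCxSingleIso B).symm ?_)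
  let q := g i
  let L := Localization.Away q
  let M := Localization.Away (φ q)
  haveI hM : IsLocalization (Algebra.algebraMapSubmonoid B (Submonoid.powers q)) M := by
    rw [Algebra.algebraMapSubmonoid, Submonoid.map_powers]
    exact inferInstanceAs (IsLocalization.Away (φ q) M)
  let π : L →+* M := IsLocalization.Away.map L M φ.toRingHom q
  letI : Algebra L M := π.toAlgebra
  haveI : IsScalarTower P L M := IsScalarTower.of_algebraMap_eq fun x => by
    show algebraMap B M (φ x) = π (algebraMap P L x)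
    exact (IsLocalization.map_eq _ x).symm
  haveI : IsScalarTower A L M := IsScalarTower.of_algebraMap_eq fun x => by
    rw [IsScalarTower.algebraMap_apply A P L, ← IsScalarTower.algebraMap_apply P L M,
      ← IsScalarTower.algebraMap_apply A P M]
  have hpo : Algebra.IsPushout P L B M :=
    Algebra.IsPushout.symm (Algebra.isPushout_of_isLocalization (Submonoid.powers q) L B M)
  refine pcoh_of_equiv (M := M) hpo.out.equiv.symm ?_
  rcases hTS (T.equivFin.symm i).2 with hi | hi
  · haveI : Subsingleton M := IsLocalization.subsingleton (M := Submonoid.powers (φ q))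
      (show (0 : B) ∈ Submonoid.powers (φ q) from ⟨1, (pow_one _).trans hi⟩)
    haveI := Module.Free.of_subsingleton L M
    exact (perfect_iff.1 perfect_of_finite_free).1 m
  · haveI : Algebra.FinitePresentation P L := IsLocalization.Away.finitePresentation q
    haveI : Algebra.FinitePresentation A L := Algebra.FinitePresentation.trans A P L
    haveI : Module.Flat A L := Module.Flat.trans A P L
    exact pcoh'_iff.1 (pcoh'_of_pcohHom (A := A) (KRLib.awayMap_surjective φ.toRingHom q L M hφ) (h _ hi)) m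

/-- Cancellation. -/
theorem pcohHom_cancel {C : Type u} [CommRing C] [Algebra B C] [Algebra A C] [IsScalarTower A B C]
    (hAB : MoreMor.IsPseudoCoherentHom A B) (hAC : MoreMor.IsPseudoCoherentHom A C) :
    MoreMor.IsPseudoCoherentHom B C := by
  haveI := finitePresentation_of_isPseudoCoherentHom hAC
  haveI : Algebra.FiniteType B C := Algebra.FiniteType.of_restrictScalars_finiteType A B C
  obtain ⟨n, φ, hφ, hp⟩ := hAB
  obtain ⟨m, ψ, hψ⟩ := Algebra.FiniteType.iff_quotient_mvPolynomial''.1 ‹Algebra.FiniteType B C›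
  refine ⟨m, ψ, hψ, ?_⟩
  letI : Algebra (MvPolynomial (Fin m) B) C := ψ.toRingHom.toAlgebra
  haveI : IsScalarTower B (MvPolynomial (Fin m) B) C := IsScalarTower.of_algebraMap_eq fun a => (ψ.commutes a).symm
  let P := MvPolynomial (Fin n) A
  letI : Algebra P B := φ.toRingHom.toAlgebra
  haveI : IsScalarTower A P B := IsScalarTower.of_algebraMap_eq fun a => (φ.commutes a).symm
  let R := MvPolynomial (Fin m) P
  let S := MvPolynomial (Fin m) B
  letI : Algebra R S := MvPolynomial.algebraMvPolynomial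
  letI : Algebra R C := ((algebraMap S C).comp (algebraMap R S)).toAlgebra
  haveI : IsScalarTower R S C := IsScalarTower.of_algebraMap_eq fun _ => rfl
  haveI : IsScalarTower A R C := IsScalarTower.of_algebraMap_eq fun a => by
    show _ = ψ (MvPolynomial.map φ.toRingHom (MvPolynomial.C (MvPolynomial.C a)))
    rw [MvPolynomial.map_C, ← MvPolynomial.algebraMap_eq, ← MvPolynomial.algebraMap_eq, AlgHom.commutes,
      IsScalarTower.algebraMap_apply A B C]
    exact congrArg _ (φ.commutes a).symm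
  have hsS : Function.Surjective (algebraMap R S) := MvPolynomial.map_surjective φ.toRingHom hφ
  have hRS : DRing.IsPseudoCoherentModule' R S :=
    pcoh'_isBaseChange (IsScalarTower.toAlgHom P B S).toLinearMap
      (inferInstance : Algebra.IsPushout P R B S).out hp
  haveI : Algebra.FinitePresentation A R := Algebra.FinitePresentation.trans A P R
  haveI : Module.Flat A R := Module.Flat.trans A P R
  exact (pcoh'_iff_of_surjective hsS hRS C).1 (pcoh'_of_pcohHom (A := A) (R := R) (hψ.comp hsS) hAC)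

theorem exists_finite_free_cover [Module.Finite A B] (s : Finset B) :
    ∃ (R : Type u) (_ : CommRing R) (_ : Algebra A R) (σ : R →ₐ[A] B),
      Module.Finite A R ∧ Module.Free A R ∧ Algebra.FinitePresentation A R ∧ (s : Set B) ⊆ Set.range σ := by
  classical
  induction s using Finset.induction_on with
  | empty => exact ⟨A, inferInstance, inferInstance, Algebra.ofId A B, inferInstance, inferInstance, inferInstance, by simp⟩
  | @insert c s _ ih =>
    obtain ⟨R, _, _, σ, hfin, hfree, hfp, hsub⟩ := ih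
    obtain ⟨p, hp, hp0⟩ := Algebra.IsIntegral.isIntegral (R := A) c
    let p' := p.map (algebraMap A R)
    let R' := AdjoinRoot p'
    have hmon : p'.Monic := hp.map _
    have hev : Polynomial.eval₂ σ.toRingHom c p' = 0 := by
      rw [Polynomial.eval₂_map, AlgHom.toRingHom_eq_coe, AlgHom.comp_algebraMap]
      exact hp0
    let τ : R' →+* B := AdjoinRoot.lift σ.toRingHom c hev
    let τ' : R' →ₐ[A] B := { τ with
      commutes' := fun a => by
        show τ (algebraMap A R' a) = _
        rw [IsScalarTower.algebraMap_apply A R R']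
        exact (AdjoinRoot.lift_of _).trans (σ.commutes a) }
    haveI : Module.Finite R R' := (AdjoinRoot.powerBasis' hmon).finite
    haveI : Module.Free R R' := Module.Free.of_basis (AdjoinRoot.powerBasis' hmon).basis
    haveI : Algebra.FinitePresentation R R' := inferInstance
    refine ⟨R', inferInstance, inferInstance, τ', Module.Finite.trans R R', Module.Free.trans (R := A) (S := R),
      Algebra.FinitePresentation.trans A R R', fun x hx => ?_⟩
    rcases Finset.mem_insert.1 hx with rfl | hx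
    · exact ⟨AdjoinRoot.root p', AdjoinRoot.lift_root hev⟩
    · obtain ⟨r, rfl⟩ := hsub hx
      exact ⟨AdjoinRoot.of p' r, AdjoinRoot.lift_of hev⟩

/-- For a finite algebra, pseudo-coherence as a ring map and as a module agree. -/
theorem pcohHom_iff_of_finite [Module.Finite A B] :
    MoreMor.IsPseudoCoherentHom A B ↔ DRing.IsPseudoCoherentModule' A B := by
  obtain ⟨s, hs⟩ := (inferInstance : Module.Finite A B).fg_top
  obtain ⟨R, _, _, σ, hfin, hfree, hfp, hsub⟩ := exists_finite_free_cover (A := A) s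
  letI : Algebra R B := σ.toRingHom.toAlgebra
  haveI : IsScalarTower A R B := IsScalarTower.of_algebraMap_eq fun a => (σ.commutes a).symm
  have hsurj : Function.Surjective (algebraMap R B) := fun b => by
    have : Submodule.span A (s : Set B) ≤ LinearMap.range σ.toLinearMap := Submodule.span_le.2 fun x hx => hsub hx
    rw [hs] at this
    exact this Submodule.mem_top
  have hAR : DRing.IsPseudoCoherentModule' A R := pcoh'_iff.2 (perfect_iff.1 perfect_of_finite_free).1
  rw [pcoh'_iff_of_finite hAR B]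
  exact ⟨pcoh'_of_pcohHom (A := A) hsurj, pcohHom_of_surjective (A := A) hsurj⟩

end Ring

/-- Pseudo-coherent ring maps. -/
def PcohHom {R S : Type u} [CommRing R] [CommRing S] (f : R →+* S) : Prop :=
  letI := f.toAlgebra
  MoreMor.IsPseudoCoherentHom R S

theorem pcohHom_algebraMap {R S : Type u} [CommRing R] [CommRing S] [Algebra R S] :
    PcohHom (algebraMap R S) ↔ MoreMor.IsPseudoCoherentHom R S := by
  rw [PcohHom, toAlgebra_algebraMap]

theorem PcohHom.comp {R S T : Type u} [CommRing R] [CommRing S] [CommRing T] {f : R →+* S} {g : S →+* T}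
    (hf : PcohHom f) (hg : PcohHom g) : PcohHom (g.comp f) := by
  letI := f.toAlgebra
  letI := g.toAlgebra
  letI : Algebra R T := (g.comp f).toAlgebra
  haveI : IsScalarTower R S T := IsScalarTower.of_algebraMap_eq fun _ => rfl
  exact pcohHom_comp (B := S) (C := T) hf hg

theorem pcohHom_ofLocalizationSpanTarget : RingHom.OfLocalizationSpanTarget @PcohHom := by
  rw [RingHom.ofLocalizationSpanTarget_iff_finite]
  intro R S _ _ f s hs h
  letI := f.toAlgebra
  refine pcohHom_of_span_eq_top s hs fun g hg => ?_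
  have h1 := h ⟨g, hg⟩
  rw [show (algebraMap S (Localization.Away g)).comp f = algebraMap R (Localization.Away g) from rfl] at h1
  exact pcohHom_algebraMap.1 h1

theorem pcohHom_stableUnderCompositionSource :
    RingHom.StableUnderCompositionWithLocalizationAwaySource @PcohHom := by
  intro R S T _ _ _ _ r _ f h
  exact PcohHom.comp (pcohHom_algebraMap.2 (pcohHom_away r)) h

theorem pcohHom_stableUnderCompositionTarget :
    RingHom.StableUnderCompositionWithLocalizationAwayTarget @PcohHom := by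
  intro R S T _ _ _ _ s _ f h
  exact PcohHom.comp h (pcohHom_algebraMap.2 (pcohHom_away s))

theorem pcohHom_localizationAwayPreserves : RingHom.LocalizationAwayPreserves @PcohHom := by
  intro R S _ _ f r R' S' _ _ _ _ _ _ h
  letI := f.toAlgebra
  letI : Algebra R S' := ((algebraMap S S').comp f).toAlgebra
  haveI : IsScalarTower R S S' := IsScalarTower.of_algebraMap_eq fun _ => rfl
  letI : Algebra R' S' := (IsLocalization.Away.map R' S' f r).toAlgebra
  haveI : IsScalarTower R R' S' := IsScalarTower.of_algebraMap_eq fun x => by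
    show algebraMap R S' x = IsLocalization.Away.map R' S' f r (algebraMap R R' x)
    rw [IsLocalization.Away.map, IsLocalization.map_eq]
    rfl
  haveI : IsLocalization (Algebra.algebraMapSubmonoid S (Submonoid.powers r)) S' := by
    rw [Algebra.algebraMapSubmonoid, Submonoid.map_powers]
    exact inferInstanceAs (IsLocalization.Away (f r) S')
  haveI : Algebra.IsPushout R R' S S' :=
    Algebra.IsPushout.symm (Algebra.isPushout_of_isLocalization (Submonoid.powers r) R' S S')
  haveI : Module.Flat R R' := IsLocalization.flat R' (Submonoid.powers r)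
  exact pcohHom_baseChange (A' := R') (B' := S') h

theorem pcohHom_isLocal : RingHom.PropertyIsLocal @PcohHom :=
  ⟨pcohHom_localizationAwayPreserves, pcohHom_ofLocalizationSpanTarget,
    pcohHom_ofLocalizationSpanTarget.ofLocalizationSpan pcohHom_stableUnderCompositionSource,
    pcohHom_stableUnderCompositionTarget⟩

/-- Affine-locally pseudo-coherent morphisms. -/
def PcohMor : MorphismProperty Scheme.{u} :=
  affineLocally PcohHom

instance : HasRingHomProperty PcohMor.{u} PcohHom :=
  ⟨pcohHom_isLocal, rfl⟩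

theorem pcohMor_of_exists {X S : Scheme.{u}} (f : X ⟶ S)
    (h : ∀ x : X, ∃ (U : X.Opens) (V : S.Opens) (hUV : U ≤ f ⁻¹ᵁ V), IsAffineOpen U ∧ IsAffineOpen V ∧ x ∈ U ∧
      PcohHom (f.appLE V U hUV).hom) : MoreMor.IsPseudoCoherentMor f := by
  have hP : PcohMor f := by
    rw [HasRingHomProperty.iff_exists_appLE (P := PcohMor) pcohHom_stableUnderCompositionSource]
    intro x
    obtain ⟨U, V, e, hU, hV, hx, hp⟩ := h x
    exact ⟨⟨V, hV⟩, ⟨U, hU⟩, hx, e, hp⟩
  exact fun U V hU hV e => HasRingHomProperty.appLE (P := PcohMor) f hP ⟨V, hV⟩ ⟨U, hU⟩ e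

theorem pseudoCoherentMor_iff_exists {X S : Scheme.{u}} (f : X ⟶ S) : MoreMor.IsPseudoCoherentMor f ↔
    ∀ x : X, ∃ (U : X.Opens) (V : S.Opens) (hUV : U ≤ f ⁻¹ᵁ V), IsAffineOpen U ∧ IsAffineOpen V ∧ x ∈ U ∧
      PcohHom (f.appLE V U hUV).hom := by
  refine ⟨fun h x => ?_, pcohMor_of_exists f⟩
  obtain ⟨V, hV, hxV, -⟩ := exists_isAffineOpen_mem_and_subset (x := f x) (U := ⊤) trivial
  obtain ⟨U, hU, hxU, hUV⟩ := exists_isAffineOpen_mem_and_subset (x := x) (U := f ⁻¹ᵁ V) hxV
  exact ⟨U, V, hUV, hU, hV, hxU, h U V hU hV hUV⟩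

theorem lfp_of_pcohMor {X S : Scheme.{u}} (f : X ⟶ S) (h : MoreMor.IsPseudoCoherentMor f) :
    LocallyOfFinitePresentation f :=
  ⟨fun {V} hV {U} hU e => by
    letI := (f.appLE V U e).hom.toAlgebra
    exact finitePresentation_of_isPseudoCoherentHom (h U V hU hV e)⟩

theorem pcohMor_comp {X Y Z : Scheme.{u}} (f : X ⟶ Y) (g : Y ⟶ Z) (hf : MoreMor.IsPseudoCoherentMor f)
    (hg : MoreMor.IsPseudoCoherentMor g) : MoreMor.IsPseudoCoherentMor (f ≫ g) := by
  refine pcohMor_of_exists _ fun x => ?_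
  obtain ⟨V, hV, hxV, -⟩ := exists_isAffineOpen_mem_and_subset (x := g (f x)) (U := ⊤) trivial
  obtain ⟨W, hW, hxW, hWV⟩ := exists_isAffineOpen_mem_and_subset (x := f x) (U := g ⁻¹ᵁ V) hxV
  obtain ⟨U, hU, hxU, hUW⟩ := exists_isAffineOpen_mem_and_subset (x := x) (U := f ⁻¹ᵁ W) hxW
  have hWV' : W ≤ g ⁻¹ᵁ V := hWV
  have hUW' : U ≤ f ⁻¹ᵁ W := hUW
  refine ⟨U, V, (hUW'.trans (f.preimage_mono hWV')).trans_eq (Scheme.Hom.comp_preimage f g V).symm, hU, hV, hxU, ?_⟩
  rw [← Scheme.Hom.appLE_comp_appLE f g V W U hWV' hUW', CommRingCat.hom_comp]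
  exact PcohHom.comp (hg W V hW hV hWV') (hf U W hU hW hUW')

theorem pcohMor_cancel {X Y S : Scheme.{u}} (f : X ⟶ Y) (g : Y ⟶ S) (hX : MoreMor.IsPseudoCoherentMor (f ≫ g))
    (hY : MoreMor.IsPseudoCoherentMor g) : MoreMor.IsPseudoCoherentMor f := by
  refine pcohMor_of_exists _ fun x => ?_
  obtain ⟨V, hV, hxV, -⟩ := exists_isAffineOpen_mem_and_subset (x := g (f x)) (U := ⊤) trivial
  obtain ⟨W, hW, hxW, hWV⟩ := exists_isAffineOpen_mem_and_subset (x := f x) (U := g ⁻¹ᵁ V) hxV
  obtain ⟨U, hU, hxU, hUW⟩ := exists_isAffineOpen_mem_and_subset (x := x) (U := f ⁻¹ᵁ W) hxW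
  have hWV' : W ≤ g ⁻¹ᵁ V := hWV
  have hUW' : U ≤ f ⁻¹ᵁ W := hUW
  refine ⟨U, W, hUW', hU, hW, hxU, ?_⟩
  have hUV : U ≤ (f ≫ g) ⁻¹ᵁ V := (hUW'.trans (f.preimage_mono hWV')).trans_eq (Scheme.Hom.comp_preimage f g V).symm
  letI : Algebra Γ(S, V) Γ(Y, W) := (g.appLE V W hWV').hom.toAlgebra
  letI : Algebra Γ(Y, W) Γ(X, U) := (f.appLE W U hUW').hom.toAlgebra
  letI : Algebra Γ(S, V) Γ(X, U) := ((f ≫ g).appLE V U hUV).hom.toAlgebra
  haveI : IsScalarTower Γ(S, V) Γ(Y, W) Γ(X, U) := IsScalarTower.of_algebraMap_eq fun a =>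
    (congrArg (fun φ : Γ(S, V) ⟶ Γ(X, U) => φ.hom a) (Scheme.Hom.appLE_comp_appLE f g V W U hWV' hUW') : _).symm
  exact pcohHom_cancel (A := Γ(S, V)) (hY W V hW hV hWV') (hX U V hU hV hUV)

theorem pcohMor_baseChange {X S X' S' : Scheme.{u}} (f : X ⟶ S) (f' : X' ⟶ S') (g' : X' ⟶ X) (g : S' ⟶ S)
    [Flat g] (hc : IsPullback g' f' f g) (hf : MoreMor.IsPseudoCoherentMor f) : MoreMor.IsPseudoCoherentMor f' := by
  refine pcohMor_of_exists _ fun x' => ?_
  obtain ⟨T, hT, hxT, -⟩ := exists_isAffineOpen_mem_and_subset (x := f (g' x')) (U := ⊤) trivial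
  have hsT : g (f' x') ∈ T := by
    rw [← Scheme.Hom.comp_apply, ← hc.w]
    exact hxT
  obtain ⟨U, hU, hxU, hUT⟩ := exists_isAffineOpen_mem_and_subset (x := g' x') (U := f ⁻¹ᵁ T) hxT
  obtain ⟨T', hT', hxT', eT⟩ := exists_isAffineOpen_mem_and_subset (x := f' x') (U := g ⁻¹ᵁ T) hsT
  have hUT' : U ≤ f ⁻¹ᵁ T := hUT
  have eT' : T' ≤ g ⁻¹ᵁ T := eT
  obtain ⟨hU', hp⟩ := LCILocusLib.pullback_chart hc hT hT' eT' hU hUT'
  refine ⟨g' ⁻¹ᵁ U ⊓ f' ⁻¹ᵁ T', T', inf_le_right, hU', hT', ⟨hxU, hxT'⟩, ?_⟩
  let U' := g' ⁻¹ᵁ U ⊓ f' ⁻¹ᵁ T'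
  letI : Algebra Γ(S, T) Γ(S', T') := (g.appLE T T' eT').hom.toAlgebra
  letI : Algebra Γ(S, T) Γ(X, U) := (f.appLE T U hUT').hom.toAlgebra
  letI : Algebra Γ(S', T') Γ(X', U') := (f'.appLE T' U' inf_le_right).hom.toAlgebra
  letI : Algebra Γ(X, U) Γ(X', U') := (g'.appLE U U' inf_le_left).hom.toAlgebra
  letI : Algebra Γ(S, T) Γ(X', U') := (f.appLE T U hUT' ≫ g'.appLE U U' inf_le_left).hom.toAlgebra
  haveI : IsScalarTower Γ(S, T) Γ(X, U) Γ(X', U') := IsScalarTower.of_algebraMap_eq fun _ => rfl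
  haveI : IsScalarTower Γ(S, T) Γ(S', T') Γ(X', U') :=
    IsScalarTower.of_algebraMap_eq' (congrArg CommRingCat.Hom.hom hp.w)
  haveI : Algebra.IsPushout Γ(S, T) Γ(X, U) Γ(S', T') Γ(X', U') := CommRingCat.isPushout_iff_isPushout.mp hp
  haveI : Algebra.IsPushout Γ(S, T) Γ(S', T') Γ(X, U) Γ(X', U') := .symm inferInstance
  haveI : Module.Flat Γ(S, T) Γ(S', T') := g.flat_appLE hT hT' eT'
  exact pcohHom_baseChange (A' := Γ(S', T')) (B' := Γ(X', U')) (hf U T hU hT hUT')

theorem pcohMor_iff_of_isFinite {X S : Scheme.{u}} (f : X ⟶ S) [IsFinite f] :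
    MoreMor.IsPseudoCoherentMor f ↔ ∀ (V : S.Opens), IsAffineOpen V →
      letI := (f.app V).hom.toAlgebra
      DRing.IsPseudoCoherentModule' Γ(S, V) Γ(X, f ⁻¹ᵁ V) := by
  have key : ∀ (V : S.Opens), IsAffineOpen V → (PcohHom (f.appLE V (f ⁻¹ᵁ V) le_rfl).hom ↔
      letI := (f.app V).hom.toAlgebra
      DRing.IsPseudoCoherentModule' Γ(S, V) Γ(X, f ⁻¹ᵁ V)) := fun V hV => by
    rw [← Scheme.Hom.app_eq_appLE]
    letI := (f.app V).hom.toAlgebra
    haveI : Module.Finite Γ(S, V) Γ(X, f ⁻¹ᵁ V) := IsFinite.finite_app f V hV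
    exact pcohHom_iff_of_finite
  refine ⟨fun h V hV => (key V hV).1 (h _ V (hV.preimage f) hV le_rfl), fun h => pcohMor_of_exists f fun x => ?_⟩
  obtain ⟨V, hV, hxV, -⟩ := exists_isAffineOpen_mem_and_subset (x := f x) (U := ⊤) trivial
  exact ⟨f ⁻¹ᵁ V, V, le_rfl, hV.preimage f, hV, hxV, (key V hV).2 (h V hV)⟩

end PerfModLib
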