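import Groth.Agent.PerfModLib.Pcoh
import Groth.Agent.FlatLib.QFCover
import Groth.Agent.TorDimLib.FlatVanish
import Groth.Agent.S9436
import Groth.Agent.S0112
import Mathlib

/-!
# Descent of pseudo-coherence along faithfully flat covers of the source
-/

set_option autoImplicit false
set_option linter.style.haveILetI false
set_option backward.isDefEq.respectTransparency.types false

noncomputable section

universe u

open CategoryTheory CategoryTheory.Limits TensorProduct TorDimLib
attribute [local instance] HasDerivedCategory.standard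

namespace PerfModLib

/-- Pseudo-coherence passes to direct summands. -/
theorem pcoh_retract {R : Type u} [CommRing R] {m : ℤ} {M N : Type u} [AddCommGroup M] [Module R M]
    [AddCommGroup N] [Module R N] (i : M →ₗ[R] N) (r : N →ₗ[R] M) (h : r ∘ₗ i = LinearMap.id)
    (hN : DRing.IsPseudoCoherentModule R m N) : DRing.IsPseudoCoherentModule R m M := by
  let F := DerivedCategory.singleFunctor (ModuleCat.{u} R) 0
  let i' := F.map (ModuleCat.ofHom i)
  have hir : i' ≫ F.map (ModuleCat.ofHom r) = 𝟙 _ := by
    rw [← F.map_comp, ← ModuleCat.ofHom_comp, h, ModuleCat.ofHom_id]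
    exact F.map_id _
  haveI : IsSplitMono i' := IsSplitMono.mk' ⟨_, hir⟩
  obtain ⟨C, g, δ, hT⟩ := Pretriangulated.distinguished_cocone_triangle i'
  haveI : Mono (Pretriangulated.Triangle.mk i' g δ).mor₁ := inferInstanceAs (Mono i')
  obtain ⟨e, -, -⟩ := Pretriangulated.exists_iso_binaryBiproduct_of_distTriang _ hT
    (Pretriangulated.Triangle.mor₃_eq_zero_iff_mono₁ _ hT |>.2 inferInstance)
  exact (Groth.Agent.DRingLib.isPseudoCoherent_of_biprod (Groth.Agent.DRingLib.isPseudoCoherent_of_iso e hN)).1

/-- A jointly surjective family of flat algebras detects zero modules. -/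
theorem detectsZero_of_jointly {R : Type u} [CommRing R] {ι : Type} (S : ι → Type u) [∀ i, CommRing (S i)]
    [∀ i, Algebra R (S i)] [∀ i, Module.Flat R (S i)]
    (h : ∀ Q : PrimeSpectrum R, ∃ i, Q ∈ Set.range (PrimeSpectrum.comap (algebraMap R (S i)))) :
    Groth.Agent.DRingLib.DetectsZero (R := R) S := by
  intro M _ _ hM
  refine subsingleton_of_forall_eq 0 fun x => ?_
  by_contra hx
  let a : Ideal R := LinearMap.ker (LinearMap.toSpanSingleton R M x)
  have ha : a ≠ ⊤ := fun e => hx (by
    have h1 : (1 : R) ∈ a := e ▸ Submodule.mem_top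
    simpa [a] using h1)
  obtain ⟨Q, hQ, haQ⟩ := Ideal.exists_le_maximal a ha
  obtain ⟨i, T, hT⟩ := h ⟨Q, hQ.isPrime⟩
  let j : (R ⧸ a) →ₗ[R] M := a.liftQ (LinearMap.toSpanSingleton R M x) le_rfl
  have hj : Function.Injective j := LinearMap.ker_eq_bot.1 (Submodule.ker_liftQ_eq_bot _ _ _ le_rfl)
  have hinj : Function.Injective (j.lTensor (S i)) := Module.Flat.lTensor_preserves_injective_linearMap j hj
  haveI := hM i
  haveI : Subsingleton (S i ⊗[R] (R ⧸ a)) := hinj.subsingleton
  haveI : Subsingleton (S i ⧸ a.map (algebraMap R (S i))) :=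
    (Algebra.TensorProduct.quotIdealMapEquivTensorQuot (S i) a).toEquiv.subsingleton
  have htop := Ideal.Quotient.subsingleton_iff.1 ‹Subsingleton (S i ⧸ a.map (algebraMap R (S i)))›
  refine T.isPrime.ne_top (top_le_iff.1 (htop ▸ Ideal.map_le_iff_le_comap.2 fun r hr => ?_))
  have e := congrArg PrimeSpectrum.asIdeal hT
  exact (SetLike.ext_iff.1 e r).2 (haQ hr)

attribute [local instance] Algebra.TensorProduct.rightAlgebra

/-- Etale locally, a quasi-finite flat algebra has a finite flat factor through a given point. -/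
theorem exists_nbhd {A C D : Type u} [CommRing A] [CommRing C] [CommRing D] [Algebra A C] [Algebra C D]
    [Algebra A D] [IsScalarTower A C D] [Module.FaithfullyFlat C D] [Algebra.FinitePresentation C D]
    [Algebra.QuasiFinite C D] (hD : MoreMor.IsPseudoCoherentHom A D) (q : PrimeSpectrum C) :
    ∃ (E : Type u) (_ : CommRing E) (_ : Algebra C E) (_ : Algebra.Etale C E) (F : Type u) (_ : CommRing F)
      (_ : Algebra E F) (_ : Algebra A E) (_ : IsScalarTower A C E) (_ : Algebra A F) (_ : IsScalarTower A E F),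
      q ∈ Set.range (PrimeSpectrum.comap (algebraMap C E)) ∧ Module.Finite E F ∧ Module.FaithfullyFlat E F ∧
      Algebra.FinitePresentation E F ∧ MoreMor.IsPseudoCoherentHom A F := by
  obtain ⟨qD, hqD⟩ := PrimeSpectrum.comap_surjective_of_faithfullyFlat (B := D) q
  haveI : qD.asIdeal.LiesOver q.asIdeal := ⟨(congrArg PrimeSpectrum.asIdeal hqD).symm⟩
  haveI : Algebra.QuasiFiniteAt C qD.asIdeal := Algebra.QuasiFinite.of_isLocalization qD.asIdeal.primeCompl
  obtain ⟨R', _, _, _, P, _, hPq, e, he, P', _, hP'P, -, heP', -, hfin, -⟩ :=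
    Algebra.exists_etale_isIdempotentElem_forall_liesOver_eq q.asIdeal qD.asIdeal
  let F₀ := Localization.Away e
  haveI : Algebra.FinitePresentation R' F₀ :=
    Algebra.FinitePresentation.trans R' (R' ⊗[C] D) F₀
  haveI : Module.Flat R' F₀ := Module.Flat.trans R' (R' ⊗[C] D) F₀
  let U : Set (PrimeSpectrum R') := Set.range (PrimeSpectrum.comap (algebraMap R' F₀))
  have hU : IsOpen U := (PrimeSpectrum.isOpenMap_comap_of_hasGoingDown_of_finitePresentation (R := R') (S := F₀)).isOpen_range
  have hPU : (⟨P, inferInstance⟩ : PrimeSpectrum R') ∈ U := by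
    have hdisj : Disjoint (Submonoid.powers e : Set (R' ⊗[C] D)) P' :=
      (Ideal.disjoint_powers_iff_notMem _ (Ideal.IsPrime.isRadical ‹_›)).2 heP'
    refine ⟨⟨P'.map (algebraMap _ F₀), IsLocalization.isPrime_of_isPrime_disjoint (Submonoid.powers e) F₀ P' ‹_› hdisj⟩,
      PrimeSpectrum.ext ?_⟩
    show (P'.map (algebraMap _ F₀)).comap (algebraMap R' F₀) = P
    rw [IsScalarTower.algebraMap_eq R' (R' ⊗[C] D) F₀, ← Ideal.comap_comap]
    exact (congrArg (Ideal.comap _) (IsLocalization.under_map_of_isPrime_disjoint (Submonoid.powers e) F₀ ‹_› hdisj)).trans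
      hP'P.over.symm
  obtain ⟨_, ⟨g, rfl⟩, hgP, hgU⟩ := PrimeSpectrum.isTopologicalBasis_basic_opens.exists_subset_of_mem_open hPU hU
  let E := Localization.Away g
  let F := Localization.Away (algebraMap R' F₀ g)
  haveI : IsLocalization (Algebra.algebraMapSubmonoid F₀ (Submonoid.powers g)) F := by
    rw [Algebra.algebraMapSubmonoid, Submonoid.map_powers]
    exact inferInstanceAs (IsLocalization.Away (algebraMap R' F₀ g) F)
  let π : E →+* F := IsLocalization.Away.map E F (algebraMap R' F₀) g
  letI : Algebra E F := π.toAlgebra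
  haveI : IsScalarTower R' E F := IsScalarTower.of_algebraMap_eq fun x => by
    show algebraMap R' F x = π (algebraMap R' E x)
    rw [IsScalarTower.algebraMap_apply R' F₀ F]
    exact (IsLocalization.map_eq _ x).symm
  haveI : Algebra.Etale R' E := Algebra.Etale.of_isLocalizationAway g
  haveI : Algebra.Etale C E := Algebra.Etale.comp C R' E
  haveI hfinE : Module.Finite E F := Module.Finite.of_isLocalization R' F₀ (Submonoid.powers g)
  haveI : Module.Flat R' F := Module.Flat.trans R' F₀ F
  haveI : Module.Flat E F := (Module.flat_iff_of_isLocalization E (Submonoid.powers g) F).2 inferInstance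
  haveI : Algebra.FinitePresentation R' F := Algebra.FinitePresentation.trans R' F₀ F
  haveI : Algebra.FinitePresentation E F := Algebra.FinitePresentation.of_restrict_scalars_finitePresentation R' E F
  have hff : Module.FaithfullyFlat E F := Module.FaithfullyFlat.of_comap_surjective fun m => by
    have hm : PrimeSpectrum.comap (algebraMap R' E) m ∈ (PrimeSpectrum.basicOpen g : Set (PrimeSpectrum R')) := by
      rw [← PrimeSpectrum.localization_away_comap_range E g]
      exact ⟨m, rfl⟩
    obtain ⟨w, hw⟩ := hgU hm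
    have hgw : algebraMap R' F₀ g ∉ w.asIdeal := fun hc => by
      have hc' : g ∈ (PrimeSpectrum.comap (algebraMap R' F₀) w).asIdeal := hc
      rw [hw] at hc'
      exact (PrimeSpectrum.mem_basicOpen _ _).1 hm hc'
    have hdisj : Disjoint (Submonoid.powers (algebraMap R' F₀ g) : Set F₀) w.asIdeal :=
      (Ideal.disjoint_powers_iff_notMem _ w.isPrime.isRadical).2 hgw
    refine ⟨⟨w.asIdeal.map (algebraMap F₀ F), IsLocalization.isPrime_of_isPrime_disjoint _ F _ w.isPrime hdisj⟩, ?_⟩
    apply PrimeSpectrum.localization_comap_injective E (Submonoid.powers g)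
    rw [← hw]
    refine PrimeSpectrum.ext ?_
    show ((w.asIdeal.map (algebraMap F₀ F)).comap (algebraMap E F)).comap (algebraMap R' E) =
      w.asIdeal.comap (algebraMap R' F₀)
    rw [Ideal.comap_comap, ← IsScalarTower.algebraMap_eq, IsScalarTower.algebraMap_eq R' F₀ F, ← Ideal.comap_comap]
    exact congrArg (Ideal.comap _)
      (IsLocalization.under_map_of_isPrime_disjoint (Submonoid.powers (algebraMap R' F₀ g)) F w.isPrime hdisj)
  -- pseudo-coherence over `A`
  letI : Algebra A R' := ((algebraMap C R').comp (algebraMap A C)).toAlgebra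
  haveI : IsScalarTower A C R' := IsScalarTower.of_algebraMap_eq fun _ => rfl
  haveI : IsScalarTower A C E := IsScalarTower.of_algebraMap_eq fun a => by
    rw [IsScalarTower.algebraMap_apply A R' E, IsScalarTower.algebraMap_apply C R' E,
      ← IsScalarTower.algebraMap_apply A C R']
  haveI : IsScalarTower A R' F := inferInstance
  haveI : IsScalarTower A E F := IsScalarTower.of_algebraMap_eq fun a => by
    rw [IsScalarTower.algebraMap_apply A R' F, IsScalarTower.algebraMap_apply A R' E,
      ← IsScalarTower.algebraMap_apply R' E F]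
  haveI : IsScalarTower A D F := IsScalarTower.of_algebraMap_eq (R := A) (S := D) (A := F) fun a => by
    rw [IsScalarTower.algebraMap_apply A R' F, IsScalarTower.algebraMap_apply D (R' ⊗[C] D) F,
      IsScalarTower.algebraMap_apply R' (R' ⊗[C] D) F]
    refine congrArg _ ?_
    show (algebraMap A R' a) ⊗ₜ[C] (1 : D) = (1 : R') ⊗ₜ[C] algebraMap A D a
    rw [IsScalarTower.algebraMap_apply A C R', IsScalarTower.algebraMap_apply A C D,
      Algebra.algebraMap_eq_smul_one (A := R'), Algebra.algebraMap_eq_smul_one (A := D), TensorProduct.smul_tmul]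
  haveI : Module.Flat D (R' ⊗[C] D) :=
    Module.Flat.of_linearEquiv (Algebra.TensorProduct.commRight C D R').symm.toLinearEquiv
  haveI : Algebra.FinitePresentation D (R' ⊗[C] D) :=
    Algebra.FinitePresentation.equiv (Algebra.TensorProduct.commRight C D R')
  haveI : Module.Flat D F₀ := Module.Flat.trans D (R' ⊗[C] D) F₀
  haveI : Algebra.FinitePresentation D F₀ := Algebra.FinitePresentation.trans D (R' ⊗[C] D) F₀
  haveI : Module.Flat D F := Module.Flat.trans D F₀ F
  haveI : Algebra.FinitePresentation D F := Algebra.FinitePresentation.trans D F₀ F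
  refine ⟨E, inferInstance, inferInstance, inferInstance, F, inferInstance, inferInstance, inferInstance,
    inferInstance, inferInstance, inferInstance, ?_, hfinE, hff, inferInstance,
    pcohHom_comp hD (isPerfectHom_of_flat (A := D) (B := F)).1⟩
  have hgP' : (⟨P, inferInstance⟩ : PrimeSpectrum R') ∈ Set.range (PrimeSpectrum.comap (algebraMap R' E)) := by
    rw [PrimeSpectrum.localization_away_comap_range E g]
    exact hgP
  obtain ⟨y, hy⟩ := hgP'
  refine ⟨y, PrimeSpectrum.ext ?_⟩
  show y.asIdeal.comap (algebraMap C E) = q.asIdeal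
  rw [IsScalarTower.algebraMap_eq C R' E, ← Ideal.comap_comap,
    show y.asIdeal.comap (algebraMap R' E) = P from congrArg PrimeSpectrum.asIdeal hy]
  exact hPq.over.symm

/-- A finite faithfully flat algebra of finite presentation has a linear form taking `1` to `1`. -/
theorem exists_dual_one (E F : Type u) [CommRing E] [CommRing F] [Algebra E F] [Module.FinitePresentation E F]
    [Module.FaithfullyFlat E F] : ∃ r : F →ₗ[E] E, r 1 = 1 := by
  haveI : Module.Projective E F := Module.Flat.projective_of_finitePresentation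
  obtain ⟨s, hs⟩ := ‹Module.Projective E F›.out
  let a : Ideal E := LinearMap.range (LinearMap.applyₗ (1 : F) : (F →ₗ[E] E) →ₗ[E] E)
  suffices ha : a = ⊤ by
    obtain ⟨r, hr⟩ := (show (1 : E) ∈ a from ha ▸ Submodule.mem_top)
    exact ⟨r, hr⟩
  have h1 : (1 : F) ∈ a.map (algebraMap E F) := by
    rw [← hs 1, Finsupp.linearCombination_apply]
    refine Ideal.sum_mem _ fun y _ => ?_
    show (s 1) y • y ∈ _
    rw [Algebra.smul_def]
    exact Ideal.mul_mem_right _ _ (Ideal.mem_map_of_mem _ ⟨(Finsupp.lapply y).comp s, rfl⟩)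
  have h2 := Ideal.comap_map_eq_self_of_faithfullyFlat (B := F) a
  rw [(Ideal.eq_top_iff_one _).2 h1, Ideal.comap_top] at h2
  exact h2.symm

/-- Such a neighbourhood lifts to the presentation. -/
theorem exists_lift {A C E F : Type u} [CommRing A] [CommRing C] [CommRing E] [CommRing F] [Algebra A C]
    [Algebra C E] [Algebra.Etale C E] [Algebra E F] [Algebra A E] [IsScalarTower A C E] [Algebra A F]
    [IsScalarTower A E F] [Module.Finite E F] [Module.FaithfullyFlat E F] [Algebra.FinitePresentation E F]
    (hF : MoreMor.IsPseudoCoherentHom A F) {P : Type u} [CommRing P] [Algebra A P] [Module.Flat A P]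
    [Algebra.FinitePresentation A P] [Algebra P C] [IsScalarTower A P C]
    (hs : Function.Surjective (algebraMap P C)) :
    ∃ (S : Type u) (_ : CommRing S) (_ : Algebra P S), Module.Flat P S ∧ Algebra.FinitePresentation P S ∧
      (∀ y : PrimeSpectrum E, PrimeSpectrum.comap (algebraMap P C) (PrimeSpectrum.comap (algebraMap C E) y) ∈
        Set.range (PrimeSpectrum.comap (algebraMap P S))) ∧
      DRing.IsPseudoCoherentModule' S (S ⊗[P] C) := by
  let I : Ideal P := RingHom.ker (algebraMap P C)
  let e₀ : (P ⧸ I) ≃ₐ[P] C := Ideal.quotientKerAlgEquivOfSurjective (f := Algebra.ofId P C) hs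
  letI : Algebra (P ⧸ I) C := e₀.toAlgHom.toRingHom.toAlgebra
  haveI : Algebra.Etale (P ⧸ I) C :=
    Algebra.Etale.of_equiv (AlgEquiv.ofBijective (Algebra.ofId (P ⧸ I) C) e₀.bijective)
  letI : Algebra (P ⧸ I) E := ((algebraMap C E).comp e₀.toAlgHom.toRingHom).toAlgebra
  haveI : IsScalarTower (P ⧸ I) C E := IsScalarTower.of_algebraMap_eq fun _ => rfl
  haveI : Algebra.Etale (P ⧸ I) E := Algebra.Etale.comp (P ⧸ I) C E
  obtain ⟨S, _, _, hS, ⟨eqv⟩⟩ := Groth.Agent.S9436.result P I E
  letI : Algebra P E := ((algebraMap C E).comp (algebraMap P C)).toAlgebra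
  haveI : IsScalarTower P C E := IsScalarTower.of_algebraMap_eq fun _ => rfl
  let ψ : S →ₐ[P] E :=
    { eqv.toAlgHom.toRingHom.comp (Algebra.TensorProduct.includeRight : S →ₐ[P] (P ⧸ I) ⊗[P] S).toRingHom with
      commutes' := fun p => by
        show eqv ((1 : P ⧸ I) ⊗ₜ[P] algebraMap P S p) = algebraMap C E (algebraMap P C p)
        rw [Algebra.algebraMap_eq_smul_one (A := S) p, ← TensorProduct.smul_tmul]
        exact (eqv.commutes (Ideal.Quotient.mk I p) ▸ (by
          rw [show p • (1 : P ⧸ I) = Ideal.Quotient.mk I p from (Algebra.algebraMap_eq_smul_one p).symm]; rfl) :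
            eqv ((p • (1 : P ⧸ I)) ⊗ₜ[P] (1 : S)) = algebraMap C E (algebraMap P C p)) }
  letI : Algebra S E := ψ.toRingHom.toAlgebra
  haveI : IsScalarTower P S E := IsScalarTower.of_algebraMap_eq fun p => (ψ.commutes p).symm
  haveI : Algebra.Etale P S := hS
  let L : S ⊗[P] C →ₐ[S] E :=
    Algebra.TensorProduct.lift (Algebra.ofId S E) (IsScalarTower.toAlgHom P C E) fun _ _ => Commute.all _ _
  let J : (P ⧸ I) ⊗[P] S ≃ₐ[P] S ⊗[P] C :=
    (Algebra.TensorProduct.comm P (P ⧸ I) S).trans (Algebra.TensorProduct.congr AlgEquiv.refl e₀)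
  have hLJ : ∀ t, L (J t) = eqv t := fun t => by
    induction t using TensorProduct.induction_on with
    | zero => rw [map_zero, map_zero, map_zero]
    | add a b ha hb => rw [map_add, map_add, map_add, ha, hb]
    | tmul a s =>
      show L (s ⊗ₜ[P] e₀ a) = eqv (a ⊗ₜ[P] s)
      rw [Algebra.TensorProduct.lift_tmul]
      show eqv ((1 : P ⧸ I) ⊗ₜ[P] s) * algebraMap C E (e₀ a) = _
      rw [show algebraMap C E (e₀ a) = eqv (algebraMap (P ⧸ I) ((P ⧸ I) ⊗[P] S) a) from (eqv.commutes a).symm,
        ← map_mul]
      congr 1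
      rw [Algebra.TensorProduct.algebraMap_apply, Algebra.TensorProduct.tmul_mul_tmul]
      simp
  have hL : Function.Bijective L := by
    have : (L : S ⊗[P] C → E) = eqv ∘ J.symm := funext fun t => by
      show L t = eqv (J.symm t)
      rw [← hLJ, AlgEquiv.apply_symm_apply]
    rw [this]
    exact eqv.bijective.comp J.symm.bijective
  have hψs : Function.Surjective (algebraMap S E) := fun x => by
    obtain ⟨t, rfl⟩ := hL.2 x
    induction t using TensorProduct.induction_on with
    | zero => exact ⟨0, by rw [map_zero, map_zero]⟩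
    | add a b ha hb =>
      obtain ⟨u, hu⟩ := ha
      obtain ⟨v, hv⟩ := hb
      exact ⟨u + v, by rw [map_add, hu, hv, map_add]⟩
    | tmul s c =>
      obtain ⟨p, rfl⟩ := hs c
      refine ⟨s * algebraMap P S p, ?_⟩
      rw [map_mul, ← IsScalarTower.algebraMap_apply P S E, Algebra.TensorProduct.lift_tmul]
      rfl
  refine ⟨S, inferInstance, inferInstance, Algebra.Smooth.flat P S, inferInstance, fun y =>
    ⟨PrimeSpectrum.comap (algebraMap S E) y, ?_⟩, ?_⟩
  · rw [← PrimeSpectrum.comap_comp_apply, ← PrimeSpectrum.comap_comp_apply, ← IsScalarTower.algebraMap_eq,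
      ← IsScalarTower.algebraMap_eq]
  -- pseudo-coherence
  haveI : Module.Flat P S := Algebra.Smooth.flat P S
  letI : Algebra A S := ((algebraMap P S).comp (algebraMap A P)).toAlgebra
  haveI : IsScalarTower A P S := IsScalarTower.of_algebraMap_eq fun _ => rfl
  haveI : Module.Flat A S := Module.Flat.trans A P S
  haveI : Algebra.FinitePresentation A S := Algebra.FinitePresentation.trans A P S
  haveI : IsScalarTower A P E := IsScalarTower.of_algebraMap_eq fun a => by
    show _ = algebraMap C E (algebraMap P C (algebraMap A P a))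
    rw [← IsScalarTower.algebraMap_apply A P C, ← IsScalarTower.algebraMap_apply A C E]
  letI : Algebra S F := ((algebraMap E F).comp ψ.toRingHom).toAlgebra
  haveI : IsScalarTower S E F := IsScalarTower.of_algebraMap_eq fun _ => rfl
  haveI : IsScalarTower A S F := IsScalarTower.of_algebraMap_eq fun a => by
    show _ = algebraMap E F (ψ (algebraMap P S (algebraMap A P a)))
    rw [AlgHom.commutes, ← IsScalarTower.algebraMap_apply A P E, ← IsScalarTower.algebraMap_apply A E F]
  haveI : Module.Finite S E := Module.Finite.of_surjective (Algebra.linearMap S E) hψs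
  haveI : Module.Finite S F := Module.Finite.trans E F
  have hSF : DRing.IsPseudoCoherentModule' S F :=
    pcohHom_iff_of_finite.1 (pcohHom_cancel isPerfectHom_of_flat.1 hF)
  haveI : Module.FinitePresentation E F := Module.FinitePresentation.of_finite_of_finitePresentation E F
  let j : E →ₗ[E] F := Algebra.linearMap E F
  obtain ⟨r, hr1⟩ := exists_dual_one E F
  have hr : r ∘ₗ j = LinearMap.id := LinearMap.ext_ring (by
    show r (algebraMap E F 1) = 1
    rw [map_one, hr1])
  exact pcoh'_iff.2 fun m => pcoh_of_equiv (AlgEquiv.ofBijective L hL).symm.toLinearEquiv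
    (pcoh_retract (j.restrictScalars S) (r.restrictScalars S)
      (LinearMap.ext fun x => congrArg (fun φ : E →ₗ[E] E => φ x) hr) (pcoh'_iff.1 hSF m))

/-- Pseudo-coherence descends along a faithfully flat finitely presented extension of the target algebra. -/
theorem pcohHom_of_fppf {A C C' : Type u} [CommRing A] [CommRing C] [CommRing C'] [Algebra A C] [Algebra C C']
    [Algebra A C'] [IsScalarTower A C C'] [Module.FaithfullyFlat C C'] [Algebra.FinitePresentation C C']
    (h : MoreMor.IsPseudoCoherentHom A C') : MoreMor.IsPseudoCoherentHom A C := by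
  haveI := finitePresentation_of_isPseudoCoherentHom h
  haveI : Algebra.FinitePresentation A C := Groth.Agent.S0112.result (R := A) (A := C) (B := C')
  obtain ⟨D, _, _, ⟨hqf, hfp, -, ⟨φ⟩⟩, hff⟩ := FlatLib.exists_qf_cover (R := C) (B := C')
  haveI := hqf; haveI := hfp; haveI := hff
  letI : Algebra C' D := φ.toRingHom.toAlgebra
  haveI : IsScalarTower C C' D := IsScalarTower.of_algebraMap_eq fun c => (φ.commutes c).symm
  letI : Algebra A D := ((algebraMap C D).comp (algebraMap A C)).toAlgebra
  haveI : IsScalarTower A C D := IsScalarTower.of_algebraMap_eq fun _ => rfl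
  haveI : IsScalarTower A C' D := IsScalarTower.of_algebraMap_eq fun a => by
    rw [IsScalarTower.algebraMap_apply A C C', ← IsScalarTower.algebraMap_apply C C' D]
    rfl
  have hC'D : MoreMor.IsPseudoCoherentHom C' D :=
    pcohHom_cancel (isPerfectHom_of_flat (A := C) (B := C')).1 (isPerfectHom_of_flat (A := C) (B := D)).1
  have hD : MoreMor.IsPseudoCoherentHom A D := pcohHom_comp h hC'D
  obtain ⟨n, ψ, hψ⟩ := Algebra.FiniteType.iff_quotient_mvPolynomial''.1 (inferInstance : Algebra.FiniteType A C)
  refine ⟨n, ψ, hψ, ?_⟩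
  let P := MvPolynomial (Fin n) A
  letI : Algebra P C := ψ.toRingHom.toAlgebra
  haveI : IsScalarTower A P C := IsScalarTower.of_algebraMap_eq fun a => (ψ.commutes a).symm
  have hloc : ∀ Q : PrimeSpectrum P, ∃ (S : Type u) (_ : CommRing S) (_ : Algebra P S), Module.Flat P S ∧
      Algebra.FinitePresentation P S ∧ Q ∈ Set.range (PrimeSpectrum.comap (algebraMap P S)) ∧
      DRing.IsPseudoCoherentModule' S (S ⊗[P] C) := by
    intro Q
    by_cases hQ : Q ∈ Set.range (PrimeSpectrum.comap (algebraMap P C))
    · obtain ⟨q, rfl⟩ := hQ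
      obtain ⟨E, _, _, _, F, _, _, _, _, _, _, ⟨y, hy⟩, hfinF, hffF, hfpF, hF⟩ := exists_nbhd (A := A) hD q
      haveI := hfinF; haveI := hffF; haveI := hfpF
      obtain ⟨S, i1, i2, hS1, hS2, hS3, hS4⟩ := exists_lift (C := C) (E := E) hF (P := P) hψ
      exact ⟨S, i1, i2, hS1, hS2, hy ▸ hS3 y, hS4⟩
    · rw [range_comap_of_surjective _ (algebraMap P C) hψ, PrimeSpectrum.mem_zeroLocus] at hQ
      obtain ⟨k, hk, hkQ⟩ := Set.not_subset.1 hQ
      let L := Localization.Away k
      refine ⟨L, inferInstance, inferInstance, IsLocalization.flat L (Submonoid.powers k),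
        IsLocalization.Away.finitePresentation k, ?_, ?_⟩
      · rw [PrimeSpectrum.localization_away_comap_range L k]
        exact hkQ
      · have h1 : (1 : L) ⊗ₜ[P] (1 : C) = 0 := by
          obtain ⟨u, hu⟩ := (IsLocalization.Away.algebraMap_isUnit (S := L) k).exists_left_inv
          rw [← hu, ← _root_.smul_eq_mul, ← TensorProduct.smul_tmul', ← _root_.mul_one (algebraMap P L k),
            ← Algebra.smul_def, TensorProduct.smul_tmul, Algebra.smul_def, show algebraMap P C k = 0 from hk,
            zero_mul, TensorProduct.tmul_zero, smul_zero]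
        haveI : Subsingleton (L ⊗[P] C) := subsingleton_of_zero_eq_one (h1.symm.trans Algebra.TensorProduct.one_def.symm)
        haveI := Module.Free.of_subsingleton L (L ⊗[P] C)
        exact pcoh'_iff.2 (perfect_iff.1 perfect_of_finite_free).1
  choose S i1 i2 hflat hfpS hmem hpc using hloc
  have hopen : ∀ Q, IsOpen (Set.range (PrimeSpectrum.comap (algebraMap P (S Q)))) := fun Q => by
    haveI := hflat Q
    haveI := hfpS Q
    exact (PrimeSpectrum.isOpenMap_comap_of_hasGoingDown_of_finitePresentation (R := P) (S := S Q)).isOpen_range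
  obtain ⟨t, ht⟩ := isCompact_univ.elim_finite_subcover _ hopen fun Q _ => Set.mem_iUnion.2 ⟨Q, hmem Q⟩
  let idx : Fin t.card → PrimeSpectrum P := fun i => t.equivFin.symm i
  haveI : ∀ i, Module.Flat P (S (idx i)) := fun i => hflat (idx i)
  have hdet : Groth.Agent.DRingLib.DetectsZero (R := P) (fun i => S (idx i)) :=
    detectsZero_of_jointly (fun i => S (idx i)) fun Q => by
      obtain ⟨Q', hQ't, hQ'⟩ := Set.mem_iUnion₂.1 (ht (Set.mem_univ Q))
      refine ⟨t.equivFin ⟨Q', hQ't⟩, ?_⟩
      have key : ∀ Q'' : PrimeSpectrum P, Q'' = Q' →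
          Q ∈ Set.range (PrimeSpectrum.comap (algebraMap P (S Q''))) := by rintro _ rfl; exact hQ'
      exact key _ (congrArg Subtype.val (t.equivFin.symm_apply_apply ⟨Q', hQ't⟩))
  refine pcoh'_iff.2 fun m => ?_
  refine Groth.Agent.DRingLib.isPseudoCoherent_of_iso
    ((DerivedCategory.singleFunctorIsoCompQ (ModuleCat.{u} P) 0).app (ModuleCat.of P C)).symm
    (Groth.Agent.DRingLib.isPseudoCoherent_of_family hdet _ m
      fun i => Groth.Agent.DRingLib.isPseudoCoherent_of_iso (Groth.Agent.DRingLib.extCxSingleIso C).symm ?_)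
  exact pcoh'_iff.1 (hpc (idx i)) m

/-- Finite tor dimension descends along a faithfully flat extension of the target algebra. -/
theorem hasFiniteTorDim_of_faithfullyFlat {A C C' : Type u} [CommRing A] [CommRing C] [CommRing C'] [Algebra A C]
    [Algebra C C'] [Algebra A C'] [IsScalarTower A C C'] [Module.FaithfullyFlat C C']
    (h : DRing.HasFiniteTorDim A C') : DRing.HasFiniteTorDim A C := by
  obtain ⟨n, hn⟩ := h
  refine ⟨n, fun N _ _ p hp => ?_⟩
  obtain ⟨q, rfl⟩ : ∃ q, p = q + 1 := ⟨p - 1, by omega⟩
  let R := ProjectiveResolution.of (ModuleCat.of A N)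
  refine subsingleton_tor_of_exactAtSucc R q ?_
  have hC' : ExactAtSucc C' R q := exactAtSucc_of_subsingleton_tor R q (hn N (q + 1) hp)
  show Function.Exact ⇑(LinearMap.baseChange C (R.complex.d (q + 2) (q + 1)).hom)
    ⇑(LinearMap.baseChange C (R.complex.d (q + 1) q).hom)
  rw [← Module.FaithfullyFlat.lTensor_exact_iff_exact C C']
  let c : ∀ i, C' ⊗[C] (C ⊗[A] R.complex.X i) ≃ₗ[C] C' ⊗[A] R.complex.X i := fun i =>
    AlgebraTensorModule.cancelBaseChange A C C C' (R.complex.X i)
  have hc : ∀ (i j : ℕ) (z : C' ⊗[C] (C ⊗[A] R.complex.X i)),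
      (R.complex.d i j).hom.lTensor C' (c i z) =
        c j ((LinearMap.baseChange C (R.complex.d i j).hom).lTensor C' z) := by
    intro i j z
    induction z using TensorProduct.induction_on with
    | zero => rw [map_zero, map_zero, map_zero, map_zero]
    | add x y hx hy => rw [map_add, map_add, map_add, map_add, hx, hy]
    | tmul x w =>
      induction w using TensorProduct.induction_on with
      | zero => rw [TensorProduct.tmul_zero, map_zero, map_zero, map_zero, map_zero]
      | add a b ha hb => rw [TensorProduct.tmul_add, map_add, map_add, map_add, map_add, ha, hb]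
      | tmul a b => rfl
  exact fun y => by
    constructor
    · intro hy
      obtain ⟨w, hw⟩ := (hC' (c (q + 1) y)).1 (by rw [hc, hy, map_zero])
      obtain ⟨x, rfl⟩ := (c (q + 2)).surjective w
      exact ⟨x, (c (q + 1)).injective ((hc _ _ x).symm.trans hw)⟩
    · rintro ⟨x, rfl⟩
      exact (c q).injective (by rw [← hc, ← hc, map_zero]; exact (hC' _).2 ⟨c (q + 2) x, rfl⟩)

theorem isPerfectHom_of_fppf {A C C' : Type u} [CommRing A] [CommRing C] [CommRing C'] [Algebra A C] [Algebra C C']
    [Algebra A C'] [IsScalarTower A C C'] [Module.FaithfullyFlat C C'] [Algebra.FinitePresentation C C']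
    (h : MoreMor.IsPerfectHom A C') : MoreMor.IsPerfectHom A C :=
  ⟨pcohHom_of_fppf h.1, hasFiniteTorDim_of_faithfullyFlat h.2⟩

end PerfModLib
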