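import Groth.Agent.PerfModLib.Source
import Groth.Agent.PerfModLib.Mor
import Mathlib

/-!
# Pseudo-coherent and perfect morphisms are fppf local on the source
-/

set_option autoImplicit false
set_option linter.style.haveILetI false
set_option backward.isDefEq.respectTransparency.types false

noncomputable section

universe u

open CategoryTheory CategoryTheory.Limits AlgebraicGeometry
attribute [local instance] HasDerivedCategory.standard

namespace PerfModLib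

/-- Around every point, a flat cover restricts to a faithfully flat map of affines. -/
theorem exists_fppf_chart {X X' S : Scheme.{u}} (f : X ⟶ S) (a : X' ⟶ X) [Flat a] [Surjective a]
    [LocallyOfFinitePresentation a] (x : X) :
    ∃ (V : S.Opens) (U : X.Opens) (U' : X'.Opens) (hUV : U ≤ f ⁻¹ᵁ V) (hU'U : U' ≤ a ⁻¹ᵁ U),
      IsAffineOpen V ∧ IsAffineOpen U ∧ IsAffineOpen U' ∧ x ∈ U ∧
      (letI := (a.appLE U U' hU'U).hom.toAlgebra
       Module.FaithfullyFlat Γ(X, U) Γ(X', U') ∧ Algebra.FinitePresentation Γ(X, U) Γ(X', U')) := by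
  obtain ⟨V, hV, hxV, -⟩ := exists_isAffineOpen_mem_and_subset (x := f x) (U := ⊤) trivial
  obtain ⟨U, hU, hxU, hUV⟩ := exists_isAffineOpen_mem_and_subset (x := x) (U := f ⁻¹ᵁ V) hxV
  obtain ⟨x', hx'⟩ := a.surjective x
  obtain ⟨U', hU', hxU', hU'U⟩ := exists_isAffineOpen_mem_and_subset (x := x') (U := a ⁻¹ᵁ U)
    (show a x' ∈ U from hx' ▸ hxU)
  have hU'U' : U' ≤ a ⁻¹ᵁ U := hU'U
  obtain ⟨g, hgle, hxg⟩ := hU.exists_basicOpen_le
    (V := ⟨a '' (U' : Set X'), a.isOpenMap _ U'.2⟩) ⟨x, ⟨x', hxU', hx'⟩⟩ hxU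
  let D := X.basicOpen g
  let U'' := X'.basicOpen (a.appLE U U' hU'U' g)
  have hD : IsAffineOpen D := hU.basicOpen g
  have hU'' : IsAffineOpen U'' := hU'.basicOpen _
  have hU''eq : U'' = U' ⊓ a ⁻¹ᵁ D := Scheme.basicOpen_appLE a U' U hU'U' g
  have hU''D : U'' ≤ a ⁻¹ᵁ D := hU''eq.trans_le inf_le_right
  have hDV : D ≤ f ⁻¹ᵁ V := (X.basicOpen_le g).trans hUV
  refine ⟨V, D, U'', hDV, hU''D, hV, hD, hU'', hxg, ?_⟩
  letI := (a.appLE D U'' hU''D).hom.toAlgebra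
  haveI : Module.Flat Γ(X, D) Γ(X', U'') := a.flat_appLE hD hU'' hU''D
  refine ⟨Module.FaithfullyFlat.of_comap_surjective fun p => ?_,
    HasRingHomProperty.appLE (P := @LocallyOfFinitePresentation) a inferInstance ⟨D, hD⟩ ⟨U'', hU''⟩ hU''D⟩
  have hpD : hD.fromSpec p ∈ D := by
    rw [← SetLike.mem_coe, ← hD.range_fromSpec]
    exact ⟨p, rfl⟩
  obtain ⟨y', hy', hy⟩ := hgle hpD
  have hy'' : y' ∈ U'' := by
    rw [hU''eq]
    exact ⟨hy', show a y' ∈ D from hy ▸ hpD⟩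
  obtain ⟨p', hp'⟩ : y' ∈ Set.range hU''.fromSpec := by
    rw [hU''.range_fromSpec]
    exact hy''
  refine ⟨p', hD.fromSpec.isOpenEmbedding.injective ?_⟩
  show hD.fromSpec (Spec.map (a.appLE D U'' hU''D) p') = _
  rw [← Scheme.Hom.comp_apply, hD.SpecMap_appLE_fromSpec a hU'' hU''D, Scheme.Hom.comp_apply, hp', hy]

theorem pcohMor_iff_of_fppf {X X' S : Scheme.{u}} (f : X ⟶ S) (a : X' ⟶ X) [Flat a] [Surjective a]
    [LocallyOfFinitePresentation a] :
    MoreMor.IsPseudoCoherentMor f ↔ MoreMor.IsPseudoCoherentMor (a ≫ f) := by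
  refine ⟨fun h => pcohMor_comp a f (fun U V hU hV e => (perfectMor_of_flat a U V hU hV e).1) h,
    fun h => pcohMor_of_exists f fun x => ?_⟩
  obtain ⟨V, U, U', hUV, hU'U, hV, hU, hU', hx, hff⟩ := exists_fppf_chart f a x
  refine ⟨U, V, hUV, hU, hV, hx, ?_⟩
  have hU'V : U' ≤ (a ≫ f) ⁻¹ᵁ V := (hU'U.trans (a.preimage_mono hUV)).trans_eq (Scheme.Hom.comp_preimage a f V).symm
  letI : Algebra Γ(S, V) Γ(X, U) := (f.appLE V U hUV).hom.toAlgebra
  letI : Algebra Γ(X, U) Γ(X', U') := (a.appLE U U' hU'U).hom.toAlgebra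
  letI : Algebra Γ(S, V) Γ(X', U') := ((a ≫ f).appLE V U' hU'V).hom.toAlgebra
  haveI : IsScalarTower Γ(S, V) Γ(X, U) Γ(X', U') := IsScalarTower.of_algebraMap_eq fun r =>
    (congrArg (fun φ : Γ(S, V) ⟶ Γ(X', U') => φ.hom r) (Scheme.Hom.appLE_comp_appLE a f V U U' hUV hU'U) : _).symm
  haveI := hff.1
  haveI := hff.2
  exact pcohHom_of_fppf (C := Γ(X, U)) (C' := Γ(X', U')) (h U' V hU' hV hU'V)

theorem perfectMor_iff_of_fppf {X X' S : Scheme.{u}} (f : X ⟶ S) (a : X' ⟶ X) [Flat a] [Surjective a]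
    [LocallyOfFinitePresentation a] :
    MoreMor.IsPerfectMor f ↔ MoreMor.IsPerfectMor (a ≫ f) := by
  refine ⟨fun h => perfectMor_comp a f (perfectMor_of_flat a) h, fun h => perfMor_of_exists f fun x => ?_⟩
  obtain ⟨V, U, U', hUV, hU'U, hV, hU, hU', hx, hff⟩ := exists_fppf_chart f a x
  refine ⟨U, V, hUV, hU, hV, hx, ?_⟩
  have hU'V : U' ≤ (a ≫ f) ⁻¹ᵁ V := (hU'U.trans (a.preimage_mono hUV)).trans_eq (Scheme.Hom.comp_preimage a f V).symm
  letI : Algebra Γ(S, V) Γ(X, U) := (f.appLE V U hUV).hom.toAlgebra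
  letI : Algebra Γ(X, U) Γ(X', U') := (a.appLE U U' hU'U).hom.toAlgebra
  letI : Algebra Γ(S, V) Γ(X', U') := ((a ≫ f).appLE V U' hU'V).hom.toAlgebra
  haveI : IsScalarTower Γ(S, V) Γ(X, U) Γ(X', U') := IsScalarTower.of_algebraMap_eq fun r =>
    (congrArg (fun φ : Γ(S, V) ⟶ Γ(X', U') => φ.hom r) (Scheme.Hom.appLE_comp_appLE a f V U U' hUV hU'U) : _).symm
  haveI := hff.1
  haveI := hff.2
  exact isPerfectHom_of_fppf (C := Γ(X, U)) (C' := Γ(X', U')) (h U' V hU' hV hU'V)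

end PerfModLib
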