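import Groth.Agent.PerfModLib.Pcoh
import Mathlib

/-!
# Perfectness is read on the stalks
-/

set_option autoImplicit false
set_option linter.style.haveILetI false

noncomputable section

universe u

open CategoryTheory TensorProduct TorDimLib
attribute [local instance] HasDerivedCategory.standard

namespace PerfModLib

/-- A pseudo-coherent module with bounded flat resolution at a prime is perfect near it. -/
theorem exists_perfect_away {R : Type u} [CommRing R] (Q : Ideal R) [Q.IsPrime] :
    ∀ (d : ℕ) (M : Type u) [AddCommGroup M] [Module R M], DRing.IsPseudoCoherentModule' R M →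
      DiagLib.FD (Localization.AtPrime Q) d (Localization.AtPrime Q ⊗[R] M) →
      ∃ g, g ∉ Q ∧ DRing.IsPerfectModule (Localization.Away g) (Localization.Away g ⊗[R] M)
  | 0, M, _, _, hp, h => by
    haveI : Module.FinitePresentation R M := (Groth.Agent.S6935.result R M).2.1 (pcoh'_iff.1 hp (-1))
    haveI : Module.Flat (Localization.AtPrime Q) (Localization.AtPrime Q ⊗[R] M) := h
    have hfree : Module.Free (Localization.AtPrime Q) (Localization.AtPrime Q ⊗[R] M) :=
      Module.free_of_flat_of_isLocalRing
    have hmem : (⟨Q, inferInstance⟩ : PrimeSpectrum R) ∈ Module.freeLocus R M :=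
      (Module.mem_freeLocus_iff_tensor (M := M) ⟨Q, inferInstance⟩ (Localization.AtPrime Q)).2 hfree
    obtain ⟨_, ⟨g, rfl⟩, hg, hsub⟩ := PrimeSpectrum.isTopologicalBasis_basic_opens.exists_subset_of_mem_open hmem
      Module.isOpen_freeLocus
    refine ⟨g, hg, ?_⟩
    haveI := Module.basicOpen_subset_freeLocus_iff.1 hsub
    haveI : Module.Projective (Localization.Away g) (Localization.Away g ⊗[R] M) :=
      Module.Projective.of_equiv (LocalizedModule.equivTensorProduct (Submonoid.powers g) M)
    exact perfect_of_finite_free
  | d + 1, M, _, _, hp, h => by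
    haveI : Module.Finite R M := (Groth.Agent.S6935.result R M).1.1 (pcoh'_iff.1 hp 0)
    obtain ⟨n, φ, hφ⟩ := Module.Finite.exists_fin' R M
    have hK : DRing.IsPseudoCoherentModule' R (LinearMap.ker φ) := pcoh'_iff.2 fun m => by
      have h1 := pcoh_ker (m := m - 1) φ hφ ((perfect_iff.1 perfect_of_finite_free).1 _) (pcoh'_iff.1 hp _)
      rwa [sub_add_cancel] at h1
    let L := Localization.AtPrime Q
    let φL : L ⊗[R] (Fin n → R) →ₗ[L] L ⊗[R] M := φ.baseChange L
    have hφL : Function.Surjective φL := LinearMap.lTensor_surjective _ hφ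
    have hk : DiagLib.FD L d (LinearMap.ker φL) := DiagLib.FD_of_exactAtSucc d fun N P p hp' => by
      refine exactAtSucc_shift (LinearMap.ker φL).subtype φL ?_ ?_ hφL P p
        (DiagLib.exactAtSucc_of_FD (d + 1) h N P (p + 1) (by omega))
      · exact Subtype.val_injective
      · exact LinearMap.exact_subtype_ker_map φL
    obtain ⟨g, hg, hperf⟩ := exists_perfect_away Q d (LinearMap.ker φ) hK
      (DiagLib.FD.of_equiv d (LinearMap.tensorKerEquiv L L φ).symm hk)
    exact ⟨g, hg, perfect_of_ker (φ.baseChange (Localization.Away g)) (LinearMap.lTensor_surjective _ hφ)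
      perfect_of_finite_free (perfect_of_equiv (LinearMap.tensorKerEquiv (Localization.Away g) (Localization.Away g) φ) hperf)⟩

variable {A B : Type u} [CommRing A] [CommRing B] [Algebra A B]

theorem hasFiniteTorDim_stalk (h : DRing.HasFiniteTorDim A B) (q : Ideal B) [q.IsPrime] (K L : Type u)
    [CommRing K] [CommRing L] [Algebra A K] [IsLocalization.AtPrime K (q.comap (algebraMap A B))] [Algebra B L]
    [IsLocalization.AtPrime L q] [Algebra A L] [IsScalarTower A B L] [Algebra K L] [IsScalarTower A K L] :
    DRing.HasFiniteTorDim K L := by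
  obtain ⟨d, hd⟩ := DiagLib.exists_FD_of_hasFiniteTorDim h
  haveI : Module.Flat A K := IsLocalization.flat K (q.comap (algebraMap A B)).primeCompl
  have h1 : DiagLib.FD A (d + 0) L := fd_trans hd 0 L (show Module.Flat B L from IsLocalization.flat L q.primeCompl)
  have h2 := fd_baseChange (B := K) _ L h1
  haveI : TensorProduct.CompatibleSMul A K K L :=
    IsLocalization.tensorProduct_compatibleSMul (q.comap (algebraMap A B)).primeCompl K K L
  exact CILib.hasFiniteTorDim_of_FD (DiagLib.FD.of_equiv _
    ((Algebra.TensorProduct.equivOfCompatibleSMul A K K K L).symm.trans (Algebra.TensorProduct.lid K L)).toLinearEquiv h2)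

/-- Finite tor dimension at all stalks makes a pseudo-coherent ring map perfect. -/
theorem isPerfectHom_of_stalks (hp : MoreMor.IsPseudoCoherentHom A B)
    (h : ∀ (q : Ideal B) [q.IsPrime], ∃ (K L : Type u) (_ : CommRing K) (_ : CommRing L) (_ : Algebra A K)
      (_ : IsLocalization.AtPrime K (q.comap (algebraMap A B))) (_ : Algebra B L) (_ : IsLocalization.AtPrime L q)
      (_ : Algebra A L) (_ : IsScalarTower A B L) (_ : Algebra K L) (_ : IsScalarTower A K L),
      DRing.HasFiniteTorDim K L) : MoreMor.IsPerfectHom A B := by
  obtain ⟨n, φ, hφ, hpB⟩ := hp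
  refine isPerfectHom_of_perfect φ hφ ?_
  let P := MvPolynomial (Fin n) A
  letI : Algebra P B := φ.toRingHom.toAlgebra
  haveI : IsScalarTower A P B := IsScalarTower.of_algebraMap_eq fun a => (φ.commutes a).symm
  let S : Set P := {g | DRing.IsPerfectModule (Localization.Away g) (Localization.Away g ⊗[P] B)}
  have hS : Ideal.span S = ⊤ := by
    by_contra hne
    obtain ⟨m, hm, hle⟩ := Ideal.exists_le_maximal _ hne
    suffices ∃ g, g ∉ m ∧ g ∈ S by
      obtain ⟨g, hg, hgS⟩ := this
      exact hg (hle (Ideal.subset_span hgS))
    by_cases hk : RingHom.ker φ.toRingHom ≤ m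
    · let q := m.map φ.toRingHom
      haveI : q.IsPrime := Ideal.map_isPrime_of_surjective hφ hk
      obtain ⟨K, L, _, _, _, _, _, _, _, _, _, _, hKL⟩ := h q
      obtain ⟨d, hd⟩ := DiagLib.exists_FD_of_hasFiniteTorDim hKL
      haveI : Module.Flat A K := IsLocalization.flat K (q.comap (algebraMap A B)).primeCompl
      have h1 : DiagLib.FD A d L := DiagLib.FD.restrict d hd
      letI : Algebra P L := ((algebraMap B L).comp φ.toRingHom).toAlgebra
      haveI : IsScalarTower P B L := IsScalarTower.of_algebraMap_eq fun _ => rfl
      haveI : IsScalarTower A P L := IsScalarTower.of_algebraMap_eq fun a => by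
        show _ = algebraMap B L (φ (algebraMap A P a))
        rw [AlgHom.commutes, ← IsScalarTower.algebraMap_apply]
      have h2 := fd_mvPolynomial A n d L h1
      have h3 := fd_baseChange (B := Localization.AtPrime m) _ L h2
      have hqm : q.comap φ.toRingHom = m := by
        rw [Ideal.comap_map_of_surjective φ.toRingHom hφ, ← RingHom.ker_eq_comap_bot, sup_eq_left.2 hk]
      haveI : IsLocalization (Algebra.algebraMapSubmonoid B m.primeCompl) L := by
        have e : Algebra.algebraMapSubmonoid B m.primeCompl = q.primeCompl := Submonoid.ext fun b =>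
          ⟨by rintro ⟨x, hx, rfl⟩; exact fun hb => hx (hqm ▸ hb),
            fun hb => by
              obtain ⟨x, rfl⟩ := hφ b
              exact ⟨x, fun hx => hb (Ideal.mem_map_of_mem φ.toRingHom hx), rfl⟩⟩
        rw [e]; infer_instance
      let T := Localization.AtPrime m
      let ψ : T →+* L := IsLocalization.lift (M := m.primeCompl) (g := algebraMap P L) fun s =>
        IsLocalization.map_units L (⟨algebraMap P B s.1, ⟨s.1, s.2, rfl⟩⟩ : Algebra.algebraMapSubmonoid B m.primeCompl)
      letI : Algebra T L := ψ.toAlgebra
      haveI : IsScalarTower P T L := IsScalarTower.of_algebraMap_eq fun x => (IsLocalization.lift_eq _ x).symm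
      have hpo : Algebra.IsPushout P T B L :=
        Algebra.IsPushout.symm (Algebra.isPushout_of_isLocalization m.primeCompl T B L)
      haveI : TensorProduct.CompatibleSMul P T T L :=
        IsLocalization.tensorProduct_compatibleSMul m.primeCompl T T L
      have h4 : DiagLib.FD T (d + n) (T ⊗[P] B) :=
        DiagLib.FD.of_equiv _ hpo.out.equiv.symm (DiagLib.FD.of_equiv _
          ((Algebra.TensorProduct.equivOfCompatibleSMul P T T T L).symm.trans (Algebra.TensorProduct.lid T L)).toLinearEquiv h3)
      exact exists_perfect_away m (d + n) B hpB h4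
    · obtain ⟨g, hg, hgm⟩ := Set.not_subset.1 hk
      refine ⟨g, hgm, ?_⟩
      haveI : Subsingleton (Localization.Away g ⊗[P] B) := by
        refine subsingleton_of_forall_eq 0 fun z => ?_
        have hu := IsLocalization.Away.algebraMap_isUnit g (S := Localization.Away g)
        refine hu.smul_eq_zero.1 ?_
        induction z using TensorProduct.induction_on with
        | zero => rw [smul_zero]
        | add a b ha hb => rw [smul_add, ha, hb, add_zero]
        | tmul a b =>
          rw [algebraMap_smul, ← TensorProduct.tmul_smul, Algebra.smul_def,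
            show algebraMap P B g = 0 from hg, zero_mul, tmul_zero]
      haveI := Module.Free.of_subsingleton (Localization.Away g) (Localization.Away g ⊗[P] B)
      exact perfect_of_finite_free
  obtain ⟨T, hTS, hT⟩ := (Ideal.span_eq_top_iff_finite S).1 hS
  let g : Fin T.card → P := fun i => T.equivFin.symm i
  have hg : Ideal.span (Set.range g) = ⊤ := by
    rw [← hT]
    refine congrArg Ideal.span (Set.ext fun x => ?_)
    exact ⟨fun ⟨i, hi⟩ => hi ▸ (T.equivFin.symm i).2, fun hx => ⟨T.equivFin ⟨x, hx⟩, by simp [g]⟩⟩
  exact perfect_of_away g hg B fun i => hTS (T.equivFin.symm i).2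

end PerfModLib
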