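import Groth.Agent.PerfModLib.Basic
import Groth.Agent.S7000
import Mathlib

/-!
# Change of rings for pseudo-coherence and bounded flat resolutions
-/

set_option autoImplicit false
set_option linter.style.haveILetI false

noncomputable section

universe u

open CategoryTheory TensorProduct TorDimLib
attribute [local instance] HasDerivedCategory.standard

namespace PerfModLib

open Groth.Agent.DRingLib

/-- Dimension shift when the middle term is exact in the degree above. -/
theorem exactAtSucc_unshift' {A : Type u} [CommRing A] {K F Q : Type u} [AddCommGroup K] [Module A K]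
    [AddCommGroup F] [Module A F] [AddCommGroup Q] [Module A Q] (ι : K →ₗ[A] F) (π : F →ₗ[A] Q)
    (hι : Function.Injective ι) (hex : Function.Exact ι π) (hπ : Function.Surjective π) {Z : ModuleCat.{u} A}
    (P : ProjectiveResolution Z) (p : ℕ) (hF : ExactAtSucc F P (p + 1)) (h : ExactAtSucc K P p) :
    ExactAtSucc Q P (p + 1) := by
  intro z
  refine ⟨fun hz => ?_, ?_⟩
  · let D1 := (P.complex.d (p + 1) p).hom
    let D2 := (P.complex.d (p + 2) (p + 1)).hom
    let D3 := (P.complex.d (p + 3) (p + 2)).hom
    have := flat_X P p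
    have hinj : Function.Injective (ι.rTensor (P.complex.X p)) :=
      Module.Flat.rTensor_preserves_injective_linearMap ι hι
    obtain ⟨w, rfl⟩ := LinearMap.rTensor_surjective (P.complex.X (p + 2)) hπ z
    obtain ⟨v, hv⟩ := (rTensor_exact (P.complex.X (p + 1)) hex hπ (D2.lTensor F w)).1 (by rw [← comm_apply]; exact hz)
    have hdv : D1.lTensor K v = 0 := hinj (by
      rw [map_zero, ← comm_apply, hv]
      exact d_d P F _ _ _ w)
    obtain ⟨u', hu'⟩ := (h v).1 hdv
    obtain ⟨w', hw'⟩ := (hF (w - ι.rTensor _ u')).1 (by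
      show D2.lTensor F (w - ι.rTensor _ u') = 0
      rw [map_sub, comm_apply, hu', hv, sub_self])
    refine ⟨π.rTensor _ w', ?_⟩
    rw [comm_apply, hw', map_sub, ← LinearMap.comp_apply _ (ι.rTensor _), ← LinearMap.rTensor_comp,
      hex.linearMap_comp_eq_zero, LinearMap.rTensor_zero, LinearMap.zero_apply, sub_zero]
  · rintro ⟨w, rfl⟩
    exact d_d P Q _ _ _ w

variable {A B : Type u} [CommRing A] [CommRing B] [Algebra A B]

theorem exactAtSucc_trans_flat (M : Type u) [AddCommGroup M] [Module B M] [Module A M] [IsScalarTower A B M]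
    [Module.Flat B M] {Z : ModuleCat.{u} A} (Q : ProjectiveResolution Z) (p : ℕ) (h : ExactAtSucc B Q p) :
    ExactAtSucc M Q p := by
  let d1 := (Q.complex.d (p + 2) (p + 1)).hom
  let d0 := (Q.complex.d (p + 1) p).hom
  have h2 : Function.Exact ((d1.baseChange B).lTensor M) ((d0.baseChange B).lTensor M) :=
    Module.Flat.lTensor_exact M (R := B) (f := d1.baseChange B) (g := d0.baseChange B) h
  let e : ∀ (X : Type u) [AddCommGroup X] [Module A X], M ⊗[B] (B ⊗[A] X) ≃ₗ[B] M ⊗[A] X :=
    fun X _ _ => TensorProduct.AlgebraTensorModule.cancelBaseChange A B B M X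
  refine Function.Exact.of_ladder_addEquiv_of_exact (e₁ := (e _).toAddEquiv)
    (e₂ := (e _).toAddEquiv) (e₃ := (e _).toAddEquiv)
    (f₁₂ := ((d1.baseChange B).lTensor M).toAddMonoidHom)
    (f₂₃ := ((d0.baseChange B).lTensor M).toAddMonoidHom)
    (g₁₂ := (d1.lTensor M).toAddMonoidHom)
    (g₂₃ := (d0.lTensor M).toAddMonoidHom) ?_ ?_ h2
  all_goals
    ext x
    induction x using TensorProduct.induction_on with
    | zero => simp
    | add x y hx hy => simp_all
    | tmul m y =>
      induction y using TensorProduct.induction_on with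
      | zero => simp
      | add x y hx hy => simp_all [TensorProduct.tmul_add]
      | tmul b z => simp [e]

/-- Tor dimensions add up along a composite. -/
theorem fd_trans {d : ℕ} (hB : DiagLib.FD A d B) : ∀ (e : ℕ) (M : Type u) [AddCommGroup M] [Module B M]
    [Module A M] [IsScalarTower A B M], DiagLib.FD B e M → DiagLib.FD A (d + e) M
  | 0, M, _, _, _, _, h =>
    haveI : Module.Flat B M := h
    DiagLib.FD_of_exactAtSucc (d + 0) fun N Q p hp =>
      exactAtSucc_trans_flat M Q p (DiagLib.exactAtSucc_of_FD d hB N Q p hp)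
  | e + 1, M, _, _, _, _, h => by
    obtain ⟨F, _, _, g, hF, hg, hk⟩ := h
    letI : Module A F := Module.compHom F (algebraMap A B)
    haveI : IsScalarTower A B F := IsScalarTower.of_algebraMap_smul fun _ _ => rfl
    refine DiagLib.FD_of_exactAtSucc (d + (e + 1)) fun N Q p hp => ?_
    obtain ⟨p, rfl⟩ : ∃ q, p = q + 1 := ⟨p - 1, by omega⟩
    exact exactAtSucc_unshift' ((LinearMap.ker g).subtype.restrictScalars A) (g.restrictScalars A)
      Subtype.val_injective (LinearMap.exact_subtype_ker_map g) hg Q p
      (exactAtSucc_trans_flat F Q (p + 1) (DiagLib.exactAtSucc_of_FD d hB N Q (p + 1) (by omega)))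
      (DiagLib.exactAtSucc_of_FD (d + e) (fd_trans hB e (LinearMap.ker g) hk) N Q p (by omega))

/-- Flat base change of a bounded flat resolution. -/
theorem fd_baseChange [Module.Flat A B] : ∀ (d : ℕ) (M : Type u) [AddCommGroup M] [Module A M],
    DiagLib.FD A d M → DiagLib.FD B d (B ⊗[A] M)
  | 0, M, _, _, h =>
    haveI : Module.Flat A M := h
    (inferInstance : Module.Flat B (B ⊗[A] M))
  | d + 1, M, _, _, h => by
    obtain ⟨F, _, _, g, hF, hg, hk⟩ := h
    exact ⟨B ⊗[A] F, inferInstance, inferInstance, g.baseChange B, inferInstance, LinearMap.lTensor_surjective _ hg,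
      DiagLib.FD.of_equiv d (LinearMap.tensorKerEquiv B B g) (fd_baseChange d (LinearMap.ker g) hk)⟩

theorem pcoh_mid {R : Type u} [CommRing R] {m : ℤ} {F M : Type u} [AddCommGroup F] [Module R F] [AddCommGroup M]
    [Module R M] (g : F →ₗ[R] M) (hg : Function.Surjective g)
    (hK : DRing.IsPseudoCoherentModule R m (LinearMap.ker g)) (hM : DRing.IsPseudoCoherentModule R m M) :
    DRing.IsPseudoCoherentModule R m F := by
  obtain ⟨T, hT, h1, h2, h3⟩ := exists_triangle g hg
  exact (h2 ▸ isPseudoCoherent_obj₂ T hT m (h1.symm ▸ hK) (h3.symm ▸ hM) : _)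

theorem pcoh_ker {R : Type u} [CommRing R] {m : ℤ} {F M : Type u} [AddCommGroup F] [Module R F] [AddCommGroup M]
    [Module R M] (g : F →ₗ[R] M) (hg : Function.Surjective g)
    (hF : DRing.IsPseudoCoherentModule R (m + 1) F) (hM : DRing.IsPseudoCoherentModule R m M) :
    DRing.IsPseudoCoherentModule R (m + 1) (LinearMap.ker g) := by
  obtain ⟨T, hT, h1, h2, h3⟩ := exists_triangle g hg
  exact (h1 ▸ isPseudoCoherent_obj₁ T hT m (h2.symm ▸ hF) (h3.symm ▸ hM) : _)

theorem pcoh_pi (hB : ∀ m, DRing.IsPseudoCoherentModule A m B) :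
    ∀ (n : ℕ) (m : ℤ), DRing.IsPseudoCoherentModule A m (Fin n → B)
  | 0, m => by
    haveI := Module.Free.of_subsingleton A (Fin 0 → B)
    exact (perfect_iff.1 perfect_of_finite_free).1 m
  | n + 1, m => by
    let g : (Fin (n + 1) → B) →ₗ[A] B := LinearMap.proj 0
    let e : (Fin n → B) ≃ₗ[A] LinearMap.ker g :=
      { toFun := fun x => ⟨Fin.cons 0 x, rfl⟩
        invFun := fun x => Fin.tail x.1
        map_add' := fun x y => Subtype.ext (by
          funext i
          refine Fin.cases ?_ (fun j => ?_) i
          · exact (add_zero (0 : B)).symm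
          · rfl)
        map_smul' := fun c x => Subtype.ext (by
          funext i
          refine Fin.cases ?_ (fun j => ?_) i
          · exact (smul_zero c).symm
          · rfl)
        left_inv := fun x => rfl
        right_inv := fun x => Subtype.ext (by
          funext i
          refine Fin.cases ?_ (fun j => ?_) i
          · exact (LinearMap.mem_ker.1 x.2).symm
          · rfl) }
    exact pcoh_mid g (fun b => ⟨fun _ => b, rfl⟩) (pcoh_of_equiv e (pcoh_pi hB n m)) (hB m)

/-- Pseudo-coherence along a finite ring map with pseudo-coherent target. -/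
theorem pcoh_iff_of_finite [Module.Finite A B]
    (hB : ∀ m, DRing.IsPseudoCoherentModule A m B) :
    ∀ (k : ℕ) (M : Type u) [AddCommGroup M] [Module B M] [Module A M] [IsScalarTower A B M],
      DRing.IsPseudoCoherentModule A (-(k : ℤ)) M ↔ DRing.IsPseudoCoherentModule B (-(k : ℤ)) M
  | 0, M, _, _, _, _ => by
    rw [Nat.cast_zero, neg_zero, (Groth.Agent.S6935.result A M).1, (Groth.Agent.S6935.result B M).1]
    exact ⟨fun h => haveI := h; Module.Finite.of_restrictScalars_finite A B M, fun h => haveI := h; Module.Finite.trans B M⟩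
  | k + 1, M, _, _, _, _ => by
    have hm : (-((k + 1 : ℕ) : ℤ)) + 1 = -(k : ℤ) := by omega
    constructor
    · intro h
      haveI : Module.Finite A M := (Groth.Agent.S6935.result A M).1.1 (isPseudoCoherent_mono (by omega) h)
      haveI : Module.Finite B M := Module.Finite.of_restrictScalars_finite A B M
      obtain ⟨n, g, hg⟩ := Module.Finite.exists_fin' B M
      have hK := pcoh_ker (g.restrictScalars A) hg (pcoh_pi hB n _) h
      rw [hm] at hK
      refine pcoh_of_ker g hg ((perfect_iff.1 perfect_of_finite_free).1 _) ?_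
      rw [hm]
      exact (pcoh_iff_of_finite hB k (LinearMap.ker g)).1 (pcoh_of_equiv
        { toFun := fun x => ⟨x.1, x.2⟩, invFun := fun x => ⟨x.1, x.2⟩, left_inv := fun _ => rfl,
          right_inv := fun _ => rfl, map_add' := fun _ _ => rfl, map_smul' := fun _ _ => rfl } hK)
    · intro h
      haveI : Module.Finite B M := (Groth.Agent.S6935.result B M).1.1 (isPseudoCoherent_mono (by omega) h)
      obtain ⟨n, g, hg⟩ := Module.Finite.exists_fin' B M
      have hK := pcoh_ker g hg ((perfect_iff.1 perfect_of_finite_free).1 _) h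
      rw [hm] at hK
      refine pcoh_of_ker (g.restrictScalars A) hg (pcoh_pi hB n _) ?_
      rw [hm]
      exact pcoh_of_equiv
        { toFun := fun x => ⟨x.1, x.2⟩, invFun := fun x => ⟨x.1, x.2⟩, left_inv := fun _ => rfl,
          right_inv := fun _ => rfl, map_add' := fun _ _ => rfl, map_smul' := fun _ _ => rfl }
        ((pcoh_iff_of_finite hB k (LinearMap.ker g)).2 hK)

theorem pcoh'_iff_of_finite [Module.Finite A B] (hB : DRing.IsPseudoCoherentModule' A B) (M : Type u) [AddCommGroup M] [Module B M] [Module A M]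
    [IsScalarTower A B M] : DRing.IsPseudoCoherentModule' A M ↔ DRing.IsPseudoCoherentModule' B M := by
  have key := fun k => pcoh_iff_of_finite (pcoh'_iff.1 hB) k M
  constructor
  all_goals
    intro h
    refine pcoh'_iff.2 fun m => isPseudoCoherent_mono (show -(((-m).toNat : ℕ) : ℤ) ≤ m by omega) ?_
  · exact (key _).1 (pcoh'_iff.1 h _)
  · exact (key _).2 (pcoh'_iff.1 h _)

theorem pcoh'_iff_of_surjective (hs : Function.Surjective (algebraMap A B))
    (hB : DRing.IsPseudoCoherentModule' A B) (M : Type u) [AddCommGroup M] [Module B M] [Module A M]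
    [IsScalarTower A B M] : DRing.IsPseudoCoherentModule' A M ↔ DRing.IsPseudoCoherentModule' B M :=
  haveI : Module.Finite A B := Module.Finite.of_surjective (Algebra.linearMap A B) hs
  pcoh'_iff_of_finite hB M

/-- Flat base change of pseudo-coherence along a base change of modules. -/
theorem pcoh'_isBaseChange [Module.Flat A B] {M N : Type u} [AddCommGroup M] [Module A M] [AddCommGroup N]
    [Module A N] [Module B N] [IsScalarTower A B N] (φ : M →ₗ[A] N) (hφ : IsBaseChange B φ)
    (h : DRing.IsPseudoCoherentModule' A M) : DRing.IsPseudoCoherentModule' B N := by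
  have h2 := (Groth.Agent.S7000.result (B := B) 0 M).2 h
  exact pcoh'_iff.2 fun m => pcoh_of_equiv hφ.equiv (pcoh'_iff.1 h2 m)

end PerfModLib
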